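import Groth.Agent.ShStabLib.Bridge

/-!
# Filtrations

`exists_hn_filtration`, `hn_filtration_unique`, `exists_isMaxDestab`, `csub_mk`, `muSS` dictionary.
-/

universe u

open CategoryTheory CategoryTheory.Limits AlgebraicGeometry Opposite TopologicalSpace
open Groth.Agent.StabLattice Groth.Agent.QCohLib Groth.Agent.CohFinite

set_option backward.isDefEq.respectTransparency false

namespace Groth.Agent.ShStabLib

variable (k : Type u) [Field k] {X : Scheme.{u}} [X.Over (Spec (CommRingCat.of k))]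
  [IsProper (X ↘ Spec (CommRingCat.of k))] {L : X.Modules} (hL : CohB1.IsAmple L)
  [IsNoetherian X] {E : X.Modules} (hE : Coh.IsCoh E) {d : ℕ}
  (hdE : topologicalKrullDim (CohB1.support E) ≤ (d : WithBot ℕ∞))

/-- A coherent submodule as a lattice element. -/
noncomputable def csubMk {S : X.Modules} (ι : S ⟶ E) [Mono ι] (hS : Coh.IsCoh S) : CSub hE :=
  ⟨Subobject.mk ι, @isQuasicoherent_of_iso _ _ _ (Subobject.underlyingIso ι).symm hS.1⟩

include hL in
theorem vE_csubMk {S : X.Modules} (ι : S ⟶ E) [Mono ι] (hS : Coh.IsCoh S) :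
    vE hE k L (csubMk hE ι hS) = hp k L S :=
  (hp_congr k hL hS (Subobject.underlyingIso ι).symm).symm

theorem δ_bot_csubMk {S : X.Modules} (ι : S ⟶ E) [Mono ι] (hS : Coh.IsCoh S) :
    (val k hL hE hdE).δ ⊥ (csubMk hE ι hS) = hp k L S := by
  change vE hE k L (csubMk hE ι hS) - vE hE k L ⊥ = _
  rw [vE_csubMk k hL hE ι hS, vE_bot hE k hL, sub_zero]

theorem δ_csubMk_top {S : X.Modules} (ι : S ⟶ E) [Mono ι] (hS : Coh.IsCoh S) :
    (val k hL hE hdE).δ (csubMk hE ι hS) ⊤ = hp k L E - hp k L S := by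
  change vE hE k L ⊤ - vE hE k L (csubMk hE ι hS) = _
  rw [vE_csubMk k hL hE ι hS, vE_top hE k hL]

include k hL in
theorem bot_lt_csubMk {S : X.Modules} (ι : S ⟶ E) [Mono ι] (hS : Coh.IsCoh S) (h0 : ¬ IsZero S) :
    (⊥ : CSub hE) < csubMk hE ι hS :=
  (bot_le : (⊥ : CSub hE) ≤ _).lt_of_ne fun he => h0 (isZero_of_hp_eq_zero k hL hS (by
    rw [← vE_csubMk k hL hE ι hS, ← he, vE_bot hE k hL]))

theorem csubMk_lt_top {S : X.Modules} (ι : S ⟶ E) [Mono ι] (hS : Coh.IsCoh S) (hi : ¬ IsIso ι) :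
    csubMk hE ι hS < ⊤ :=
  (le_top : csubMk hE ι hS ≤ ⊤).lt_of_ne fun he =>
    hi ((Subobject.isIso_iff_mk_eq_top ι).mpr (congrArg CSub.val he))

theorem head_toSub_iff (s : LTSeries (CSub hE)) : (toSub hE s).head = ⊥ ↔ s.head = ⊥ :=
  ⟨fun h => CSub.val_injective hE h, fun h => congrArg CSub.val h⟩

theorem last_toSub_iff (s : LTSeries (CSub hE)) : (toSub hE s).last = ⊤ ↔ s.last = ⊤ :=
  ⟨fun h => CSub.val_injective hE h, fun h => congrArg CSub.val h⟩

include hdE hL in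
theorem isHNFiltration_toSub_iff (s : LTSeries (CSub hE)) :
    ShStab.IsHNFiltration k X L E d (toSub hE s) ↔ (val k hL hE hdE).IsHN ⊥ ⊤ s := by
  constructor
  · rintro ⟨hh, hl, hss, hdec⟩
    refine ⟨(head_toSub_iff hE s).mp hh, (last_toSub_iff hE s).mp hl, fun i => ?_, fun i j hij => ?_⟩
    · exact ((isSemistable_fac_iff k hL hE hdE (s.step i).le).mp (hss i)).2
    · have := hdec i j hij _ _ (hp_spec k hL (hss i).1) (hp_spec k hL (hss j).1)
      rw [δ_eq k hL hE hdE (s.step i).le, δ_eq k hL hE hdE (s.step j).le]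
      exact (redLT_iff d).mp this
  · intro h
    refine ⟨(head_toSub_iff hE s).mpr h.head, (last_toSub_iff hE s).mpr h.last,
      fun i => (isSemistable_fac_iff k hL hE hdE (s.step i).le).mpr ⟨s.step i, h.ss i⟩, fun i j hij p q hp' hq => ?_⟩
    rw [redLT_iff, eq_hp k hL (isCoh_fac hE _ _ (s.step i).le) hp', eq_hp k hL (isCoh_fac hE _ _ (s.step j).le) hq,
      ← δ_eq k hL hE hdE, ← δ_eq k hL hE hdE]
    exact h.dec i j hij

include hE hL in
theorem existsUnique_hn_filtration (hp' : ShStab.IsPure X E d) :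
    ∃! s : LTSeries (Subobject E), ShStab.IsHNFiltration k X L E d s := by
  have hdE := dim_le_of_isPure hE hp'
  obtain ⟨s, hs, -⟩ := (val k hL hE hdE).exists_hn ⊥ ⊤ bot_le (pure_bot_top k hL hE hdE hp')
  refine ⟨toSub hE s, (isHNFiltration_toSub_iff k hL hE hdE s).mpr hs, fun t ht => ?_⟩
  have hq := isQSub_of_factor hE t ht.1 fun i => (ht.2.2.1 i).1
  rw [← toSub_ofSub hE t hq] at ht ⊢
  rw [(val k hL hE hdE).hn_unique ((isHNFiltration_toSub_iff k hL hE hdE _).mp ht) hs]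

end Groth.Agent.ShStabLib
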