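import Groth.Agent.ShStabLib.HN

/-!
# Morphisms between semistable sheaves

`exists_image`, `eq_zero_of_redLT`, `mono_of_stable`, `epi_of_stable`, `isIso_of_stable`.
-/

universe u

open CategoryTheory CategoryTheory.Limits AlgebraicGeometry Opposite TopologicalSpace
open Groth.Agent.StabLattice Groth.Agent.QCohLib Groth.Agent.CohFinite

set_option backward.isDefEq.respectTransparency false

namespace Groth.Agent.ShStabLib

variable (k : Type u) [Field k] {X : Scheme.{u}} [X.Over (Spec (CommRingCat.of k))]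
  [IsProper (X ↘ Spec (CommRingCat.of k))]

include k in
theorem exists_image {F G : X.Modules} (φ : F ⟶ G) (hF : Coh.IsCoh F) (hG : Coh.IsCoh G) :
    ∃ (I : X.Modules) (p : F ⟶ I) (i : I ⟶ G), Epi p ∧ Mono i ∧ p ≫ i = φ ∧ Coh.IsCoh I ∧ (φ ≠ 0 → ¬ IsZero I) := by
  have := isNoetherian_of_proper k (X := X)
  have := hF.1
  have := hG.1
  have hI : Coh.IsCoh (Abelian.image φ) := by
    have : (cokernel φ).IsQuasicoherent := isQuasicoherent_cokernel φ
    exact isCoh_of_mono (Abelian.image.ι φ) hG (isQuasicoherent_kernel _)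
  exact ⟨Abelian.image φ, Abelian.factorThruImage φ, Abelian.image.ι φ, inferInstance, inferInstance,
    Abelian.image.fac φ, hI, fun h hz => h (by rw [← Abelian.image.fac φ, hz.eq_of_tgt (Abelian.factorThruImage φ) 0, zero_comp])⟩

variable {L : X.Modules} (hL : CohB1.IsAmple L) {d : ℕ}

include hL in
theorem eq_zero_of_redLT {F G : X.Modules} (hF : ShStab.IsSemistable k X L F d) (hG : ShStab.IsSemistable k X L G d)
    (h : PP (cross d (hp k L G) (hp k L F))) (φ : F ⟶ G) : φ = 0 := by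
  by_contra hφ
  obtain ⟨I, p, i, _, _, -, hI, hI0⟩ := exists_image k φ hF.1 hG.1
  have h1 := nn_cross_quot k hL hF p hI
  have h2 := nn_cross_sub k hL hG i hI
  have hαI := alpha_pos_of_isPure k hL hI (hI0 hφ) fun S ι _ hS h0 => hG.2.2.1 S (ι ≫ i) inferInstance hS h0
  have h3 := cross_trans d hαI (alpha_pos_of_isPure k hL hF.1 hF.2.1 hF.2.2.1).le
    (alpha_pos_of_isPure k hL hG.1 hG.2.1 hG.2.2.1).le h1 h2
  rw [cross_swap] at h
  exact not_nn_of_pp_neg h h3

include hL in
theorem mono_of_stable {F G : X.Modules} (hF : ShStab.IsStable k X L F d) (hG : ShStab.IsSemistable k X L G d)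
    (h : cross d (hp k L F) (hp k L G) = 0) (φ : F ⟶ G) (hφ : φ ≠ 0) : Mono φ := by
  obtain ⟨I, p, i, _, _, hpi, hI, hI0⟩ := exists_image k φ hF.1 hG.1
  by_cases hp' : IsIso p
  · rw [← hpi]; exact mono_comp _ _
  exfalso
  have h1 := pp_cross_quot k hL hF p hI (hI0 hφ) hp'
  have h2 := nn_cross_sub k hL hG i hI
  have hαI := alpha_pos_of_isPure k hL hI (hI0 hφ) fun S ι _ hS h0 => hG.2.2.1 S (ι ≫ i) inferInstance hS h0
  have h3 := cross_trans_lt' d hαI (alpha_pos_of_isPure k hL hF.1 hF.2.1 hF.2.2.1).le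
    (alpha_pos_of_isPure k hL hG.1 hG.2.1 hG.2.2.1) h1 h2
  exact (pp_iff.mp h3).2 h

include hL in
theorem epi_of_stable {F G : X.Modules} (hF : ShStab.IsSemistable k X L F d) (hG : ShStab.IsStable k X L G d)
    (h : cross d (hp k L F) (hp k L G) = 0) (φ : F ⟶ G) (hφ : φ ≠ 0) : Epi φ := by
  obtain ⟨I, p, i, _, _, hpi, hI, hI0⟩ := exists_image k φ hF.1 hG.1
  by_cases hi' : IsIso i
  · rw [← hpi]; exact epi_comp _ _
  exfalso
  have h1 := nn_cross_quot k hL hF p hI
  have h2 := pp_cross_sub k hL hG i hI (hI0 hφ) hi'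
  have hαI := alpha_pos_of_isPure k hL hI (hI0 hφ) fun S ι _ hS h0 => hG.2.2.1 S (ι ≫ i) inferInstance hS h0
  have h3 := cross_trans_lt d hαI (alpha_pos_of_isPure k hL hF.1 hF.2.1 hF.2.2.1)
    (alpha_pos_of_isPure k hL hG.1 hG.2.1 hG.2.2.1).le h1 h2
  exact (pp_iff.mp h3).2 h

include hL in
theorem isIso_of_stable {F G : X.Modules} (hF : ShStab.IsSemistable k X L F d) (hG : ShStab.IsSemistable k X L G d)
    (hst : ShStab.IsStable k X L F d ∨ ShStab.IsStable k X L G d)
    (h : hp k L F = hp k L G) (φ : F ⟶ G) (hφ : φ ≠ 0) : IsIso φ := by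
  have h0 : cross d (hp k L F) (hp k L G) = 0 := by rw [h, cross_self]
  have := isNoetherian_of_proper k (X := X)
  rcases hst with hs | hs
  · have := mono_of_stable k hL hs hG h0 φ hφ
    obtain ⟨e, hc⟩ := hp_add_cokernel k hL φ hF.1 hG.1
    have := isZero_of_hp_eq_zero k hL hc (by linear_combination -e - h)
    have : Epi φ := Preadditive.epi_of_cokernel_zero (this.eq_of_tgt _ _)
    exact isIso_of_mono_of_epi φ
  · have := epi_of_stable k hL hF hs h0 φ hφ
    obtain ⟨e, hk⟩ := hp_kernel_add k hL φ hF.1 hG.1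
    have := isZero_of_hp_eq_zero k hL hk (by linear_combination -e + h)
    have : Mono φ := Preadditive.mono_of_kernel_zero (this.eq_of_src _ _)
    exact isIso_of_mono_of_epi φ

end Groth.Agent.ShStabLib
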