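import Groth.Agent.ShStabLib.HN
import Groth.Agent.ShStabLib.Hom

/-!
# Criteria for (semi)stability

`exists_saturation`, `tfae_semistable`, `tfae_stable`, `semistable_of_ineq`, `ell_dictionary`, `hom_hn_eq_zero`.
-/

universe u

open CategoryTheory CategoryTheory.Limits AlgebraicGeometry Opposite TopologicalSpace
open Groth.Agent.StabLattice Groth.Agent.QCohLib Groth.Agent.CohFinite

set_option backward.isDefEq.respectTransparency false

namespace Groth.Agent.ShStabLib

variable (k : Type u) [Field k] {X : Scheme.{u}} [X.Over (Spec (CommRingCat.of k))]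
  [IsProper (X ↘ Spec (CommRingCat.of k))] {L : X.Modules} (hL : CohB1.IsAmple L)
  {E : X.Modules} (hE : Coh.IsCoh E) {d : ℕ}

include k in
theorem nonempty_fac_top_iso_cokernel [IsNoetherian X] (c : CSub hE) :
    Nonempty (fac hE c ⊤ le_top ≅ cokernel c.1.arrow) := by
  have : IsIso (⊤ : CSub hE).1.arrow := inferInstanceAs (IsIso (⊤ : Subobject E).arrow)
  exact ⟨(cokernelCompIsIso (Subobject.ofLE c.1 (⊤ : CSub hE).1 le_top) (⊤ : CSub hE).1.arrow).symm ≪≫
    cokernelIsoOfEq (Subobject.ofLE_arrow _)⟩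

include hE hL in
/-- Saturation: either `F` has full multiplicity, or it lies in a saturated proper submodule. -/
theorem cases_saturation (hp' : ShStab.IsPure X E d) (h0 : ¬ IsZero E) {F : X.Modules} (ι : F ⟶ E) [Mono ι]
    (hF : Coh.IsCoh F) (hF0 : ¬ IsZero F) :
    cross d (hp k L F) (hp k L E) = StabCat.alpha d (hp k L E) • hp k L (cokernel ι) ∨
    ∃ (F' : X.Modules) (ι' : F' ⟶ E), Mono ι' ∧ Coh.IsCoh F' ∧ ¬ IsZero F' ∧ ¬ IsIso ι' ∧
      ShStab.IsPure X (cokernel ι') d ∧ ∃ Q : Polynomial ℚ, NN Q ∧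
        cross d (hp k L F) (hp k L E) = cross d (hp k L F') (hp k L E) + StabCat.alpha d (hp k L E) • Q := by
  have := isNoetherian_of_proper k (X := X)
  have hdE := dim_le_of_isPure hE hp'
  let V := val k hL hE hdE
  let a := csubMk hE ι hF
  obtain ⟨c, ⟨hac, hαc⟩, hmax⟩ := wellFounded_gt.has_min {c : CSub hE | a ≤ c ∧ StabCat.alpha d (V.δ a c) = 0}
    ⟨a, le_rfl, by rw [Val.δ_self, alpha_zero]⟩
  have hsum : hp k L F + V.δ a c = vE hE k L c := by
    rw [show V.δ a c = vE hE k L c - vE hE k L a from rfl, vE_csubMk k hL hE ι hF]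
    ring
  by_cases hct : c = ⊤
  · left
    subst hct
    rw [vE_top hE k hL] at hsum
    obtain ⟨e, -⟩ := hp_add_cokernel k hL ι hF hE
    have e1 : hp k L (cokernel ι) = V.δ a ⊤ := by linear_combination -e + (-1 : Polynomial ℚ) * hsum + 0 * e
    rw [e1, ← hsum]
    simp only [cross, alpha_add, hαc, add_zero]
    module
  right
  have hα : StabCat.alpha d (vE hE k L c) = StabCat.alpha d (hp k L F) := by
    rw [← hsum, alpha_add, hαc, add_zero]
  refine ⟨_, c.1.arrow, inferInstance, isCoh_qsub hE c.2, fun hz => ?_, fun _ => ?_, ?_, V.δ a c, V.nn hac, ?_⟩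
  · have h1 := alpha_pos_of_isPure k hL hF hF0 fun S s _ hS h => hp' S (s ≫ ι) inferInstance hS h
    rw [← hα, show vE hE k L c = hp k L (c.1 : X.Modules) from rfl, hp_of_isZero k hL hz, alpha_zero] at h1
    exact lt_irrefl _ h1
  · exact hct (CSub.val_injective hE (Subobject.eq_top_of_isIso_arrow c.1))
  · refine isPure_congr (nonempty_fac_top_iso_cokernel k hE c).some ?_
    refine (isPure_fac_iff k hL hE hdE le_top).mpr fun e hce _ => ?_
    refine (V.α_nonneg hce.le).lt_of_ne fun h => hmax e ⟨hac.trans hce.le, ?_⟩ hce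
    rw [← V.δ_add a c e, alpha_add, hαc, ← h, add_zero]
  · rw [show hp k L (c.1 : X.Modules) = vE hE k L c from rfl, cross, cross, hα, ← hsum]
    module

include hE hL in
theorem tfae_semistable (h0 : ¬ IsZero E) (hp' : ShStab.IsPure X E d) :
    [ShStab.IsSemistable k X L E d,
      ∀ (F : X.Modules) (ι : F ⟶ E), Mono ι → Coh.IsCoh F → ¬ IsZero F → ¬ IsIso ι →
        ShStab.IsPure X (cokernel ι) d →
        ∀ (pF pE : Polynomial ℚ), ShStab.IsHilbPoly k X L F pF → ShStab.IsHilbPoly k X L E pE → StabCat.RedLE d pF pE,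
      ∀ (G : X.Modules) (π : E ⟶ G), Epi π → Coh.IsCoh G → ¬ IsIso π →
        ∀ (pE pG : Polynomial ℚ), ShStab.IsHilbPoly k X L E pE → ShStab.IsHilbPoly k X L G pG → 0 < StabCat.alpha d pG →
          StabCat.RedLE d pE pG,
      ∀ (G : X.Modules) (π : E ⟶ G), Epi π → Coh.IsCoh G → ¬ IsZero G → ¬ IsIso π →
        ShStab.IsPure X G d →
        ∀ (pE pG : Polynomial ℚ), ShStab.IsHilbPoly k X L E pE → ShStab.IsHilbPoly k X L G pG → StabCat.RedLE d pE pG].TFAE := by
  have := isNoetherian_of_proper k (X := X)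
  tfae_have 1 → 3 := by
    intro h G π _ hG _ pE pG hpE hpG _
    rw [redLE_iff, eq_hp k hL hE hpE, eq_hp k hL hG hpG]
    exact nn_cross_quot k hL h π hG
  tfae_have 3 → 4 := by
    intro h G π hπ hG hG0 hi hGp pE pG hpE hpG
    refine h G π hπ hG hi pE pG hpE hpG ?_
    rw [eq_hp k hL hG hpG]
    exact alpha_pos_of_isPure k hL hG hG0 hGp
  tfae_have 4 → 2 := by
    intro h F ι _ hF hF0 hi hc pF pE hpF hpE
    obtain ⟨e, hC⟩ := hp_add_cokernel k hL ι hF hE
    have hC0 : ¬ IsZero (cokernel ι) := fun hz => hi (by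
      have : Epi ι := Preadditive.epi_of_cokernel_zero (hz.eq_of_tgt _ _)
      exact isIso_of_mono_of_epi ι)
    have hπ : ¬ IsIso (cokernel.π ι) := fun _ => hF0 (by
      rw [IsZero.iff_id_eq_zero, ← cancel_mono ι, ← cancel_mono (cokernel.π ι)]
      simp [cokernel.condition])
    have h1 := (redLE_iff d).mp (h _ (cokernel.π ι) inferInstance hC hC0 hπ hc _ _ (hp_spec k hL hE) (hp_spec k hL hC))
    rw [e, ← cross_seesaw, ← e] at h1
    rwa [redLE_iff, eq_hp k hL hF hpF, eq_hp k hL hE hpE]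
  tfae_have 2 → 1 := by
    intro h
    refine ⟨hE, h0, hp', fun F ι _ hF hF0 _ pF pE hpF hpE => ?_⟩
    rw [redLE_iff, eq_hp k hL hF hpF, eq_hp k hL hE hpE]
    have hαE := alpha_pos_of_isPure k hL hE h0 hp'
    rcases cases_saturation k hL hE hp' h0 ι hF hF0 with e | ⟨F', ι', hm, hF', hF'0, hi', hc', Q, hQ, e⟩
    · rw [e]; exact (nn_hp k hL (hp_add_cokernel k hL ι hF hE).2).smul hαE.le
    · rw [e]
      exact ((redLE_iff d).mp (h F' ι' hm hF' hF'0 hi' hc' _ _ (hp_spec k hL hF') (hp_spec k hL hE))).add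
        (hQ.smul hαE.le)
  tfae_finish

include hE hL in
theorem tfae_stable (h0 : ¬ IsZero E) (hp' : ShStab.IsPure X E d) :
    [ShStab.IsStable k X L E d,
      ∀ (F : X.Modules) (ι : F ⟶ E), Mono ι → Coh.IsCoh F → ¬ IsZero F → ¬ IsIso ι →
        ShStab.IsPure X (cokernel ι) d →
        ∀ (pF pE : Polynomial ℚ), ShStab.IsHilbPoly k X L F pF → ShStab.IsHilbPoly k X L E pE → StabCat.RedLT d pF pE,
      ∀ (G : X.Modules) (π : E ⟶ G), Epi π → Coh.IsCoh G → ¬ IsIso π →
        ∀ (pE pG : Polynomial ℚ), ShStab.IsHilbPoly k X L E pE → ShStab.IsHilbPoly k X L G pG → 0 < StabCat.alpha d pG →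
          StabCat.RedLT d pE pG,
      ∀ (G : X.Modules) (π : E ⟶ G), Epi π → Coh.IsCoh G → ¬ IsZero G → ¬ IsIso π →
        ShStab.IsPure X G d →
        ∀ (pE pG : Polynomial ℚ), ShStab.IsHilbPoly k X L E pE → ShStab.IsHilbPoly k X L G pG → StabCat.RedLT d pE pG].TFAE := by
  have := isNoetherian_of_proper k (X := X)
  tfae_have 1 → 3 := by
    intro h G π _ hG hi pE pG hpE hpG hα
    rw [redLT_iff, eq_hp k hL hE hpE, eq_hp k hL hG hpG]
    refine pp_cross_quot k hL h π hG (fun hz => ?_) hi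
    rw [eq_hp k hL hG hpG, hp_of_isZero k hL hz, alpha_zero] at hα
    exact lt_irrefl _ hα
  tfae_have 3 → 4 := by
    intro h G π hπ hG hG0 hi hGp pE pG hpE hpG
    refine h G π hπ hG hi pE pG hpE hpG ?_
    rw [eq_hp k hL hG hpG]
    exact alpha_pos_of_isPure k hL hG hG0 hGp
  tfae_have 4 → 2 := by
    intro h F ι _ hF hF0 hi hc pF pE hpF hpE
    obtain ⟨e, hC⟩ := hp_add_cokernel k hL ι hF hE
    have hC0 : ¬ IsZero (cokernel ι) := fun hz => hi (by
      have : Epi ι := Preadditive.epi_of_cokernel_zero (hz.eq_of_tgt _ _)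
      exact isIso_of_mono_of_epi ι)
    have hπ : ¬ IsIso (cokernel.π ι) := fun _ => hF0 (by
      rw [IsZero.iff_id_eq_zero, ← cancel_mono ι, ← cancel_mono (cokernel.π ι)]
      simp [cokernel.condition])
    have h1 := (redLT_iff d).mp (h _ (cokernel.π ι) inferInstance hC hC0 hπ hc _ _ (hp_spec k hL hE) (hp_spec k hL hC))
    rw [e, ← cross_seesaw, ← e] at h1
    rwa [redLT_iff, eq_hp k hL hF hpF, eq_hp k hL hE hpE]
  tfae_have 2 → 1 := by
    intro h
    refine ⟨hE, h0, hp', fun F ι _ hF hF0 hi pF pE hpF hpE => ?_⟩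
    rw [redLT_iff, eq_hp k hL hF hpF, eq_hp k hL hE hpE]
    have hαE := alpha_pos_of_isPure k hL hE h0 hp'
    rcases cases_saturation k hL hE hp' h0 ι hF hF0 with e | ⟨F', ι', hm, hF', hF'0, hi', hc', Q, hQ, e⟩
    · rw [e]
      exact (pp_hp k hL (hp_add_cokernel k hL ι hF hE).2 fun hz => hi (by
        have : Epi ι := Preadditive.epi_of_cokernel_zero (hz.eq_of_tgt _ _)
        exact isIso_of_mono_of_epi ι)).smul hαE
    · rw [e]
      exact ((redLT_iff d).mp (h F' ι' hm hF' hF'0 hi' hc' _ _ (hp_spec k hL hF') (hp_spec k hL hE))).add_nn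
        (hQ.smul hαE.le)
  tfae_finish

include hE hL in
/-- The inequality forces purity. -/
theorem isPure_of_ineq (h0 : ¬ IsZero E) (hdim : topologicalKrullDim (CohB1.support E) = (d : WithBot ℕ∞))
    (h : StabCat.IsSS Coh.IsCoh (ShStab.IsHilbPoly k X L) d E) : ShStab.IsPure X E d := by
  intro F ι _ hF hF0
  refine (dim_support_le_of_mono ι hdim.le).lt_or_eq.resolve_left fun hlt => ?_
  have hi : ¬ IsIso ι := fun _ => hlt.ne (by rw [support_eq_of_iso (asIso ι)]; exact hdim)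
  have h1 := (redLE_iff d).mp (h F ι inferInstance hF hF0 hi _ _ (hp_spec k hL hF) (hp_spec k hL hE))
  rw [cross, alpha_hp_eq_zero k hL hF hlt, zero_smul, zero_sub, ← smul_neg] at h1
  exact not_nn_of_pp_neg (by rw [neg_neg]; exact pp_hp k hL hF hF0)
    (NN.of_smul ((alpha_pos_iff k hL hE hdim.le).mpr hdim) h1)

include hL in
/-- The dictionary between full comparison and the comparison over intermediate multiplicities. -/
theorem semistable_iff_mid (E : X.Modules) :
    ShStab.IsSemistable k X L E d ↔ Coh.IsCoh E ∧ ¬ IsZero E ∧ ShStab.IsPure X E d ∧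
      ∀ (F : X.Modules) (ι : F ⟶ E), Mono ι → Coh.IsCoh F → 0 < StabCat.alpha d (hp k L F) →
        StabCat.alpha d (hp k L F) < StabCat.alpha d (hp k L E) → NN (cross d (hp k L F) (hp k L E)) := by
  refine ⟨fun h => ⟨h.1, h.2.1, h.2.2.1, fun F ι _ hF _ _ => nn_cross_sub k hL h ι hF⟩,
    fun ⟨hE, h0, hp', H⟩ => ⟨hE, h0, hp', fun F ι _ hF hF0 _ pF pE hpF hpE => ?_⟩⟩
  rw [redLE_iff, eq_hp k hL hF hpF, eq_hp k hL hE hpE]
  have hαF := alpha_pos_of_isPure k hL hF hF0 fun S s _ hS h => hp' S (s ≫ ι) inferInstance hS h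
  obtain ⟨e, hC⟩ := hp_add_cokernel k hL ι hF hE
  obtain ⟨n, hn⟩ := exists_nat_alpha k hL hC (dim_support_le_of_epi (cokernel.π ι) (dim_le_of_isPure hE hp'))
  rcases eq_or_ne n 0 with rfl | hn0
  · rw [cross, e, alpha_add, hn, Nat.cast_zero, add_zero, ← smul_sub, add_sub_cancel_left]
    exact (nn_hp k hL hC).smul hαF.le
  · refine H F ι inferInstance hF hαF ?_
    rw [e, alpha_add, hn]
    have : (0 : ℚ) < n := by exact_mod_cast Nat.pos_of_ne_zero hn0
    linarith

include hL in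
theorem stable_iff_mid (E : X.Modules) :
    ShStab.IsStable k X L E d ↔ Coh.IsCoh E ∧ ¬ IsZero E ∧ ShStab.IsPure X E d ∧
      ∀ (F : X.Modules) (ι : F ⟶ E), Mono ι → Coh.IsCoh F → 0 < StabCat.alpha d (hp k L F) →
        StabCat.alpha d (hp k L F) < StabCat.alpha d (hp k L E) → PP (cross d (hp k L F) (hp k L E)) := by
  refine ⟨fun h => ⟨h.1, h.2.1, h.2.2.1, fun F ι _ hF hαF hlt => ?_⟩,
    fun ⟨hE, h0, hp', H⟩ => ⟨hE, h0, hp', fun F ι _ hF hF0 hi pF pE hpF hpE => ?_⟩⟩
  · refine pp_cross_sub k hL h ι hF (fun hz => ?_) fun _ => ?_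
    · rw [hp_of_isZero k hL hz, alpha_zero] at hαF; exact lt_irrefl _ hαF
    · rw [hp_congr k hL hF (asIso ι)] at hlt; exact lt_irrefl _ hlt
  rw [redLT_iff, eq_hp k hL hF hpF, eq_hp k hL hE hpE]
  have hαF := alpha_pos_of_isPure k hL hF hF0 fun S s _ hS h => hp' S (s ≫ ι) inferInstance hS h
  obtain ⟨e, hC⟩ := hp_add_cokernel k hL ι hF hE
  obtain ⟨n, hn⟩ := exists_nat_alpha k hL hC (dim_support_le_of_epi (cokernel.π ι) (dim_le_of_isPure hE hp'))
  rcases eq_or_ne n 0 with rfl | hn0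
  · rw [cross, e, alpha_add, hn, Nat.cast_zero, add_zero, ← smul_sub, add_sub_cancel_left]
    exact (pp_hp k hL hC fun hz => hi (by
      have : Epi ι := Preadditive.epi_of_cokernel_zero (hz.eq_of_tgt _ _)
      exact isIso_of_mono_of_epi ι)).smul hαF
  · refine H F ι inferInstance hF hαF ?_
    rw [e, alpha_add, hn]
    have : (0 : ℚ) < n := by exact_mod_cast Nat.pos_of_ne_zero hn0
    linarith

include hL in
/-- No nonzero maps when the minimal slope exceeds the maximal one. -/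
theorem hom_hn_eq_zero {F G : X.Modules} (hF : Coh.IsCoh F) (hFp : ShStab.IsPure X F d) (hG : Coh.IsCoh G)
    (hGp : ShStab.IsPure X G d) (s : LTSeries (Subobject F)) (hs : ShStab.IsHNFiltration k X L F d s)
    (t : LTSeries (Subobject G)) (ht : ShStab.IsHNFiltration k X L G d t)
    (i : Fin s.length) (hi : i.val + 1 = s.length) (j : Fin t.length) (hj : j.val = 0)
    (h : PP (cross d (hp k L (StabCat.factor t j)) (hp k L (StabCat.factor s i)))) (φ : F ⟶ G) : φ = 0 := by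
  have := isNoetherian_of_proper k (X := X)
  by_contra hφ
  obtain ⟨I, p, i', _, _, -, hI, hI0⟩ := exists_image k φ hF hG
  have hdF := dim_le_of_isPure hF hFp
  have hdG := dim_le_of_isPure hG hGp
  let s' := ofSub hF s (isQSub_of_factor hF s hs.1 fun m => (hs.2.2.1 m).1)
  let t' := ofSub hG t (isQSub_of_factor hG t ht.1 fun m => (ht.2.2.1 m).1)
  have hs' := (isHNFiltration_toSub_iff k hL hF hdF s').mp hs
  have ht' := (isHNFiltration_toSub_iff k hL hG hdG t').mp ht
  have hαI := alpha_pos_of_isPure k hL hI (hI0 hφ) fun S s _ hS h => hGp S (s ≫ i') inferInstance hS h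
  obtain ⟨e, hk⟩ := hp_kernel_add k hL p hF hI
  have h1 := (val k hL hF hdF).hn_min_slope hs' i hi (K := csubMk hF (kernel.ι p) hk) bot_le le_top
  rw [δ_csubMk_top, e, add_sub_cancel_left, δ_eq k hL hF hdF (s'.step i).le] at h1
  change NN (cross d (hp k L (StabCat.factor s i)) (hp k L I)) at h1
  have h2 := (((val k hL hG hdG).isMax_of_isHN ht' 0).2 (show (0 : ℕ) < t.length from hj ▸ j.isLt)).2.2
    (csubMk hG i' hI) (by
      rw [show t' 0 = ⊥ from ht'.head]
      exact bot_lt_csubMk k hL hG i' hI (hI0 hφ)) le_top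
  have e0 : (⊥ : CSub hG) = t' j.castSucc := by
    rw [show j.castSucc = (0 : Fin (t.length + 1)) from Fin.ext hj]; exact ht'.head.symm
  have h2' := h2.1
  rw [show t' 0 = ⊥ from ht'.head, δ_bot_csubMk] at h2'
  have e1 : (val k hL hG hdG).δ ⊥ (t' ⟨0 + 1, Nat.succ_lt_succ (hj ▸ j.isLt)⟩) = hp k L (StabCat.factor t j) := by
    rw [e0, show (⟨0 + 1, Nat.succ_lt_succ (hj ▸ j.isLt)⟩ : Fin (t.length + 1)) = j.succ from Fin.ext (by simp [hj]),
      δ_eq k hL hG hdG (t'.step j).le]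
    rfl
  rw [show (val k hL hG hdG).δ ⊥ (t' ⟨((0 : Fin (t'.length + 1)) : ℕ) + 1, _⟩) = hp k L (StabCat.factor t j) from e1] at h2'
  have hαs := alpha_pos_of_isPure k hL (hs.2.2.1 i).1 (hs.2.2.1 i).2.1 (hs.2.2.1 i).2.2.1
  have hαt := alpha_pos_of_isPure k hL (ht.2.2.1 j).1 (ht.2.2.1 j).2.1 (ht.2.2.1 j).2.2.1
  have h3 := cross_trans d hαI hαs.le hαt.le h1 h2'
  rw [cross_swap] at h
  exact not_nn_of_pp_neg h h3

end Groth.Agent.ShStabLib
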