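import Groth.Agent.ShStabLib.Crit

/-!
# Slope semistability of pure sheaves

`mu_nn_sub`, `muSemistable_of_nn`, `existsUnique_mu_hn`, `mu_hom_eq_zero`, `mu_extension`.
-/

universe u

open CategoryTheory CategoryTheory.Limits AlgebraicGeometry Opposite TopologicalSpace
open Groth.Agent.StabLattice Groth.Agent.QCohLib Groth.Agent.CohFinite

set_option backward.isDefEq.respectTransparency false

namespace Groth.Agent.ShStabLib

variable (k : Type u) [Field k] {X : Scheme.{u}} [X.Over (Spec (CommRingCat.of k))]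
  [IsProper (X ↘ Spec (CommRingCat.of k))] {L : X.Modules} (hL : CohB1.IsAmple L) {d : ℕ}

local notation "T₁" => StabCat.topPart 1 d

include hL in
theorem mu_nn_sub (hd : 1 ≤ d) {E : X.Modules} (h : ShStab.IsMuSemistable k X L E d) (hp' : ShStab.IsPure X E d)
    {S : X.Modules} (ι : S ⟶ E) [Mono ι] (hS : Coh.IsCoh S) : NN (T₁ (cross d (hp k L S) (hp k L E))) := by
  have hd' := dim_le_of_isPure h.1 hp'
  by_cases h0 : IsZero S
  · rw [hp_of_isZero k hL h0, cross_zero_left]
    exact nn_topPart 1 (by simp) nn_zero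
  have hαS := alpha_pos_of_isPure k hL hS h0 fun A s _ hA h => hp' A (s ≫ ι) inferInstance hA h
  obtain ⟨e, hC⟩ := hp_add_cokernel k hL ι hS h.1
  obtain ⟨n, hn⟩ := exists_nat_alpha k hL hC (dim_support_le_of_epi (cokernel.π ι) hd')
  rcases eq_or_ne n 0 with rfl | hn0
  · refine nn_topPart 1 (natDegree_cross_le (natDegree_hp_le k hL hS (dim_support_le_of_mono ι hd'))
      (natDegree_hp_le k hL h.1 hd')) ?_
    rw [cross, e, alpha_add, hn, Nat.cast_zero, add_zero, ← smul_sub, add_sub_cancel_left]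
    exact (nn_hp k hL hC).smul hαS.le
  · have hlt : StabCat.alpha d (hp k L S) < StabCat.alpha d (hp k L E) := by
      rw [e, alpha_add, hn]
      have : (0 : ℚ) < n := by exact_mod_cast Nat.pos_of_ne_zero hn0
      linarith
    exact (nn_topPart_one_cross_iff hd hαS (hαS.trans hlt)).mpr
      (h.2.2.2.2 S ι inferInstance hS _ _ (hp_spec k hL hS) (hp_spec k hL h.1) hαS hlt)

include hL in
theorem muSemistable_of_nn (hd : 1 ≤ d) {E : X.Modules} (hE : Coh.IsCoh E) (h0 : ¬ IsZero E)
    (hp' : ShStab.IsPure X E d)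
    (h : ∀ (S : X.Modules) (ι : S ⟶ E), Mono ι → Coh.IsCoh S → NN (T₁ (cross d (hp k L S) (hp k L E)))) :
    ShStab.IsMuSemistable k X L E d := by
  refine ⟨hE, h0, dim_eq_of_isPure hE h0 hp', fun F ι hm hF he => ?_, fun F ι hm hF pF pE a b h1 h2 => ?_⟩
  · by_cases hz : IsZero F
    · rw [HilbPoly.support_eq_empty_of_isZero hz, show topologicalKrullDim (∅ : Set X) = ⊥ from
        Order.krullDim_eq_bot_iff.mpr ⟨fun C => C.2.nonempty.elim fun z _ => z.2.elim⟩, WithBot.bot_add] at he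
      exact absurd he WithBot.bot_ne_coe
    · rw [hp' F ι hm hF hz] at he
      exact absurd (by exact_mod_cast he : d + 1 = d) (Nat.succ_ne_self d)
  · rw [eq_hp k hL hF a, eq_hp k hL hE b] at *
    exact (nn_topPart_one_cross_iff hd h1 (h1.trans h2)).mp (h F ι hm hF)

include hL in
theorem mu_hom_eq_zero (hd : 1 ≤ d) {F G : X.Modules} (hF : ShStab.IsMuSemistable k X L F d)
    (hG : ShStab.IsMuSemistable k X L G d) (hFp : ShStab.IsPure X F d) (hGp : ShStab.IsPure X G d)
    (h : PP (T₁ (cross d (hp k L G) (hp k L F)))) (φ : F ⟶ G) : φ = 0 := by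
  by_contra hφ
  obtain ⟨I, p, i, _, _, -, hI, hI0⟩ := exists_image k φ hF.1 hG.1
  obtain ⟨e, hk⟩ := hp_kernel_add k hL p hF.1 hI
  have h1 := mu_nn_sub k hL hd hF hFp (kernel.ι p) hk
  rw [e, cross_seesaw, ← e, ← cross_topPart] at h1
  have h2 := mu_nn_sub k hL hd hG hGp i hI
  rw [← cross_topPart] at h2
  have hαI := alpha_pos_of_isPure k hL hI (hI0 hφ) fun S ι _ hS h0 => hGp S (ι ≫ i) inferInstance hS h0
  have h3 := cross_trans d (by rwa [alpha_topPart])
    (by rw [alpha_topPart]; exact (alpha_pos_of_isPure k hL hF.1 hF.2.1 hFp).le)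
    (by rw [alpha_topPart]; exact (alpha_pos_of_isPure k hL hG.1 hG.2.1 hGp).le) h1 h2
  rw [← cross_topPart, cross_swap] at h
  exact not_nn_of_pp_neg h h3

include hL in
theorem mu_extension (hd : 1 ≤ d) (T : ShortComplex X.Modules) (hT : T.ShortExact)
    (hF : ShStab.IsMuSemistable k X L T.X₁ d) (hG : ShStab.IsMuSemistable k X L T.X₃ d)
    (hFp : ShStab.IsPure X T.X₁ d) (hGp : ShStab.IsPure X T.X₃ d)
    (hμ : StabCat.hatSlope d (hp k L T.X₁) = StabCat.hatSlope d (hp k L T.X₃)) :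
    ShStab.IsMuSemistable k X L T.X₂ d ∧ StabCat.hatSlope d (hp k L T.X₂) = StabCat.hatSlope d (hp k L T.X₁) := by
  have := isNoetherian_of_proper k (X := X)
  have := hT.mono_f
  have := hT.epi_g
  have hH : Coh.IsCoh T.X₂ := isCoh_of_extension T hT hF.1 hG.1
  have e2 := hp_additive k hL hT hF.1 hH hG.1
  have hαF := alpha_pos_of_isPure k hL hF.1 hF.2.1 hFp
  have hαG := alpha_pos_of_isPure k hL hG.1 hG.2.1 hGp
  have hαH : 0 < StabCat.alpha d (hp k L T.X₂) := by rw [e2, alpha_add]; exact add_pos hαF hαG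
  have hFG : T₁ (cross d (hp k L T.X₁) (hp k L T.X₃)) = 0 := eq_zero_of_nn_neg
    ((nn_topPart_one_cross_iff hd hαF hαG).mpr hμ.le)
    (by rw [← cross_topPart, ← cross_swap, cross_topPart]
        exact (nn_topPart_one_cross_iff hd hαG hαF).mpr hμ.ge)
  have hFH : cross d (T₁ (hp k L T.X₁)) (T₁ (hp k L T.X₂)) = 0 := by
    rw [e2, topPart_add, cross_add_right, StabLattice.cross_self, zero_add, cross_topPart, hFG]
  have hGH : cross d (T₁ (hp k L T.X₃)) (T₁ (hp k L T.X₂)) = 0 := by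
    rw [e2, topPart_add, cross_add_right, StabLattice.cross_self, add_zero, cross_swap, cross_topPart, hFG,
      neg_zero]
  have hsplit : ∀ (S : X.Modules) (ι : S ⟶ T.X₂), Mono ι → Coh.IsCoh S →
      ∃ (A B : X.Modules) (a : A ⟶ T.X₁) (b : B ⟶ T.X₃) (a' : A ⟶ S) (b' : S ⟶ B), Mono a ∧ Mono b ∧ Mono a' ∧
        Epi b' ∧ Coh.IsCoh A ∧ Coh.IsCoh B ∧ hp k L S = hp k L A + hp k L B ∧
        (IsZero A → IsZero B → IsZero S) := by
    intro S ι _ hS
    obtain ⟨B, p, b, _, _, hpb, hB, -⟩ := exists_image k (ι ≫ T.g) hS hG.1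
    obtain ⟨e, hA⟩ := hp_kernel_add k hL p hS hB
    have hker : (kernel.ι p ≫ ι) ≫ T.g = 0 := by
      rw [Category.assoc, ← hpb, ← Category.assoc, kernel.condition, zero_comp]
    let a := hT.exact.lift (kernel.ι p ≫ ι) hker
    have : Mono a := by
      have : Mono (a ≫ T.f) := by rw [ShortComplex.Exact.lift_f]; infer_instance
      exact mono_of_mono a T.f
    exact ⟨_, B, a, b, kernel.ι p, p, inferInstance, inferInstance, inferInstance, inferInstance, hA, hB, e,
      fun hA0 hB0 => isZero_of_hp_eq_zero k hL hS (by rw [e, hp_of_isZero k hL hA0, hp_of_isZero k hL hB0, add_zero])⟩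
  have hdH : topologicalKrullDim (CohB1.support T.X₂) ≤ (d : WithBot ℕ∞) := by
    rw [support_eq_union_of_shortExact hT]
    refine HilbPoly.dim_le_of_closures ((isClosed_support hF.1.2).union (isClosed_support hG.1.2)) fun x hx => ?_
    rcases hx with hx | hx
    · exact (HilbPoly.dim_mono (closure_minimal (Set.singleton_subset_iff.mpr hx) (isClosed_support hF.1.2))).trans
        hF.2.2.1.le
    · exact (HilbPoly.dim_mono (closure_minimal (Set.singleton_subset_iff.mpr hx) (isClosed_support hG.1.2))).trans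
        hG.2.2.1.le
  have hpure : ShStab.IsPure X T.X₂ d := by
    intro S ι hm hS hS0
    refine (dim_support_le_of_mono ι hdH).lt_or_eq.resolve_left fun hlt => ?_
    obtain ⟨A, B, a, b, a', b', _, _, _, _, hA, hB, -, hz⟩ := hsplit S ι hm hS
    refine hS0 (hz ?_ ?_)
    · by_contra hA0
      exact ((HilbPoly.dim_mono (support_subset_of_mono a')).trans_lt hlt).ne (hFp A a inferInstance hA hA0)
    · by_contra hB0
      exact ((HilbPoly.dim_mono (support_subset_of_epi b')).trans_lt hlt).ne (hGp B b inferInstance hB hB0)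
  refine ⟨muSemistable_of_nn k hL hd hH (fun hz => hαH.ne' (by rw [hp_of_isZero k hL hz, alpha_zero])) hpure
    fun S ι hm hS => ?_, ?_⟩
  · obtain ⟨A, B, a, b, a', b', _, _, _, _, hA, hB, e, -⟩ := hsplit S ι hm hS
    rw [e, ← cross_topPart, topPart_add, cross_add_left]
    have h1 := mu_nn_sub k hL hd hF hFp a hA
    have h2 := mu_nn_sub k hL hd hG hGp b hB
    rw [← cross_topPart] at h1 h2
    obtain ⟨nA, hnA⟩ := exists_nat_alpha k hL hA (dim_support_le_of_mono a (dim_le_of_isPure hF.1 hFp))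
    obtain ⟨nB, hnB⟩ := exists_nat_alpha k hL hB (dim_support_le_of_mono b (dim_le_of_isPure hG.1 hGp))
    refine (cross_trans d (by rwa [alpha_topPart]) (by rw [alpha_topPart, hnA]; positivity)
      (by rw [alpha_topPart]; exact hαH.le) h1 (by rw [hFH]; exact nn_zero)).add
      (cross_trans d (by rwa [alpha_topPart]) (by rw [alpha_topPart, hnB]; positivity)
      (by rw [alpha_topPart]; exact hαH.le) h2 (by rw [hGH]; exact nn_zero))
  · rw [cross_topPart] at hFH
    refine le_antisymm ((nn_topPart_one_cross_iff hd hαH hαF).mp ?_)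
      ((nn_topPart_one_cross_iff hd hαF hαH).mp (by rw [hFH]; exact nn_zero))
    rw [← cross_topPart, cross_swap, cross_topPart, hFH, neg_zero]
    exact nn_zero

variable [IsNoetherian X] {E : X.Modules} (hE : Coh.IsCoh E)
  (hdE : topologicalKrullDim (CohB1.support E) ≤ (d : WithBot ℕ∞))

include hdE hL in
theorem muSemistable_fac_iff (hd : 1 ≤ d) {a b : CSub hE} (h : a ≤ b) :
    (ShStab.IsPure X (fac hE a b h) d ∧ ShStab.IsMuSemistable k X L (fac hE a b h) d) ↔
      a < b ∧ (valT k hL hE hdE 1).SS a b := by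
  have eδ : ∀ {c : CSub hE} (hac : a ≤ c), cross d ((valT k hL hE hdE 1).δ a c) ((valT k hL hE hdE 1).δ a b) =
      T₁ (cross d (hp k L (fac hE a c hac)) (hp k L (fac hE a b h))) := fun {c} hac => by
    rw [δT_eq, δT_eq, cross_topPart, δ_eq k hL hE hdE hac, δ_eq k hL hE hdE h]
  constructor
  · rintro ⟨hP, hs⟩
    refine ⟨h.lt_of_ne fun he => hs.2.1 ((isZero_fac_iff hE k hL a b h).mpr he),
      (pureT_iff k hL hE hdE 1 a b).mpr ((isPure_fac_iff k hL hE hdE h).mp hP), fun c hac hcb => ?_⟩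
    rw [eδ hac]
    exact mu_nn_sub k hL hd hs hP (facMap hE hac hcb) (isCoh_fac hE _ _ _)
  · rintro ⟨hlt, hP, hs⟩
    have hP' := (isPure_fac_iff k hL hE hdE h).mpr ((pureT_iff k hL hE hdE 1 a b).mp hP)
    refine ⟨hP', muSemistable_of_nn k hL hd (isCoh_fac hE _ _ _)
      (fun hz => hlt.ne ((isZero_fac_iff hE k hL a b h).mp hz)) hP' fun S ι _ hS => ?_⟩
    obtain ⟨c, hac, hcb, ⟨e⟩⟩ := exists_of_mono_fac hE h ι hS
    rw [hp_congr k hL hS e, ← eδ hac]
    exact hs c hac hcb

include hE hL in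
theorem existsUnique_mu_hn (hd : 1 ≤ d) (hp' : ShStab.IsPure X E d) :
    ∃! s : LTSeries (Subobject E),
      s.head = ⊥ ∧ s.last = ⊤ ∧
      (∀ i : Fin s.length,
        ShStab.IsPure X (StabCat.factor s i) d ∧ ShStab.IsMuSemistable k X L (StabCat.factor s i) d) ∧
      ∀ (i j : Fin s.length), i.val + 1 = j.val →
        ∀ (p q : Polynomial ℚ), ShStab.IsHilbPoly k X L (StabCat.factor s i) p →
          ShStab.IsHilbPoly k X L (StabCat.factor s j) q →
          StabCat.hatSlope d q < StabCat.hatSlope d p := by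
  have hdE := dim_le_of_isPure hE hp'
  have hiff : ∀ s : LTSeries (CSub hE), (valT k hL hE hdE 1).IsHN ⊥ ⊤ s ↔
      ((toSub hE s).head = ⊥ ∧ (toSub hE s).last = ⊤ ∧
      (∀ i : Fin s.length, ShStab.IsPure X (StabCat.factor (toSub hE s) i) d ∧
        ShStab.IsMuSemistable k X L (StabCat.factor (toSub hE s) i) d) ∧
      ∀ (i j : Fin s.length), i.val + 1 = j.val →
        ∀ (p q : Polynomial ℚ), ShStab.IsHilbPoly k X L (StabCat.factor (toSub hE s) i) p →
          ShStab.IsHilbPoly k X L (StabCat.factor (toSub hE s) j) q →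
          StabCat.hatSlope d q < StabCat.hatSlope d p) := by
    intro s
    have epp : ∀ i j : Fin s.length, ShStab.IsPure X (fac hE _ _ (s.step i).le) d → ShStab.IsPure X (fac hE _ _ (s.step j).le) d →
        (PP (cross d ((valT k hL hE hdE 1).δ (s j.castSucc) (s j.succ)) ((valT k hL hE hdE 1).δ (s i.castSucc) (s i.succ))) ↔
        StabCat.hatSlope d (hp k L (fac hE _ _ (s.step j).le)) < StabCat.hatSlope d (hp k L (fac hE _ _ (s.step i).le))) := by
      intro i j hi hj
      rw [δT_eq, δT_eq, cross_topPart, δ_eq k hL hE hdE (s.step i).le, δ_eq k hL hE hdE (s.step j).le]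
      exact pp_topPart_one_cross_iff hd
        (alpha_pos_of_isPure k hL (isCoh_fac hE _ _ _) (fun hz => (s.step j).ne ((isZero_fac_iff hE k hL _ _ _).mp hz)) hj)
        (alpha_pos_of_isPure k hL (isCoh_fac hE _ _ _) (fun hz => (s.step i).ne ((isZero_fac_iff hE k hL _ _ _).mp hz)) hi)
    constructor
    · intro h
      have hf := fun i => (muSemistable_fac_iff k hL hE hdE hd (s.step i).le).mpr ⟨s.step i, h.ss i⟩
      refine ⟨(head_toSub_iff hE s).mpr h.head, (last_toSub_iff hE s).mpr h.last, hf, fun i j hij p q hp'' hq => ?_⟩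
      rw [eq_hp k hL (isCoh_fac hE _ _ (s.step i).le) hp'', eq_hp k hL (isCoh_fac hE _ _ (s.step j).le) hq]
      exact (epp i j (hf i).1 (hf j).1).mp (h.dec i j hij)
    · rintro ⟨hh, hl, hf, hdec⟩
      exact ⟨(head_toSub_iff hE s).mp hh, (last_toSub_iff hE s).mp hl,
        fun i => ((muSemistable_fac_iff k hL hE hdE hd (s.step i).le).mp (hf i)).2,
        fun i j hij => (epp i j (hf i).1 (hf j).1).mpr
          (hdec i j hij _ _ (hp_spec k hL (hf i).2.1) (hp_spec k hL (hf j).2.1))⟩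
  obtain ⟨s, hs, -⟩ := (valT k hL hE hdE 1).exists_hn ⊥ ⊤ bot_le
    ((pureT_iff k hL hE hdE 1 ⊥ ⊤).mpr (pure_bot_top k hL hE hdE hp'))
  refine ⟨toSub hE s, (hiff s).mp hs, fun t ht => ?_⟩
  have hq := isQSub_of_factor hE t ht.1 fun i => (ht.2.2.1 i).2.1
  rw [← toSub_ofSub hE t hq] at ht ⊢
  rw [(valT k hL hE hdE 1).hn_unique ((hiff _).mpr ht) hs]

end Groth.Agent.ShStabLib
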