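import Groth.Agent.ShStabLib.CSub

/-!
# Stability of sheaves and the lattice theory of coherent submodules

`val`, `valT`, `isPure_fac_iff`, `isSemistable_fac_iff`, `isStable_fac_iff`,
`nn_cross_sub`, `nn_cross_quot`, `exists_mu_val`.
-/

universe u

open CategoryTheory CategoryTheory.Limits AlgebraicGeometry Opposite TopologicalSpace
open Groth.Agent.StabLattice Groth.Agent.QCohLib Groth.Agent.CohFinite

set_option backward.isDefEq.respectTransparency false

namespace Groth.Agent.ShStabLib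

attribute [local instance] Abelian.hasFiniteBiproducts

/-! ### Truncation -/

section trunc

open Polynomial

theorem coeff_topPart (ℓ d : ℕ) (P : ℚ[X]) (j : ℕ) :
    (StabCat.topPart ℓ d P).coeff j = if j ∈ Finset.Icc (d - ℓ) d then P.coeff j else 0 := by
  rw [StabCat.topPart, finsetSum_coeff]
  simp only [coeff_monomial]
  rw [Finset.sum_ite_eq']

theorem alpha_topPart (ℓ d : ℕ) (P : ℚ[X]) : StabCat.alpha d (StabCat.topPart ℓ d P) = StabCat.alpha d P := by
  rw [StabCat.alpha, StabCat.alpha, coeff_topPart, if_pos (Finset.mem_Icc.mpr ⟨Nat.sub_le d ℓ, le_rfl⟩)]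

theorem topPart_sub (ℓ d : ℕ) (P Q : ℚ[X]) :
    StabCat.topPart ℓ d (P - Q) = StabCat.topPart ℓ d P - StabCat.topPart ℓ d Q := by
  ext j
  simp only [coeff_topPart, coeff_sub]
  split <;> simp

theorem topPart_add (ℓ d : ℕ) (P Q : ℚ[X]) :
    StabCat.topPart ℓ d (P + Q) = StabCat.topPart ℓ d P + StabCat.topPart ℓ d Q := by
  ext j
  simp only [coeff_topPart, coeff_add]
  split <;> simp

theorem topPart_smul (ℓ d : ℕ) (c : ℚ) (P : ℚ[X]) :
    StabCat.topPart ℓ d (c • P) = c • StabCat.topPart ℓ d P := by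
  ext j
  simp only [coeff_topPart, coeff_smul, smul_eq_mul]
  split <;> simp

theorem topPart_self {ℓ d : ℕ} (h : d ≤ ℓ) {P : ℚ[X]} (hP : P.natDegree ≤ d) : StabCat.topPart ℓ d P = P := by
  ext j
  rw [coeff_topPart]
  split
  · rfl
  · rename_i hj
    rw [Finset.mem_Icc, Nat.sub_eq_zero_of_le h] at hj
    exact (coeff_eq_zero_of_natDegree_lt (by omega)).symm

theorem nn_topPart (ℓ : ℕ) {d : ℕ} {P : ℚ[X]} (hP : P.natDegree ≤ d) (h : NN P) :
    NN (StabCat.topPart ℓ d P) := by
  by_cases hn : d - ℓ ≤ P.natDegree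
  · rcases eq_or_ne P 0 with rfl | hP0
    · rw [show StabCat.topPart ℓ d (0 : ℚ[X]) = 0 by ext j; simp [coeff_topPart]]; exact nn_zero
    have hc : (StabCat.topPart ℓ d P).coeff P.natDegree = P.leadingCoeff := by
      rw [coeff_topPart, if_pos (Finset.mem_Icc.mpr ⟨hn, hP⟩)]; rfl
    have hle : (StabCat.topPart ℓ d P).natDegree ≤ P.natDegree :=
      natDegree_le_iff_coeff_eq_zero.mpr fun j hj => by
        rw [coeff_topPart, coeff_eq_zero_of_natDegree_lt hj, ite_self]
    have he := le_antisymm hle (le_natDegree_of_ne_zero (by rw [hc]; exact leadingCoeff_ne_zero.mpr hP0))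
    rw [NN, leadingCoeff, he, hc]
    exact h
  · rw [show StabCat.topPart ℓ d P = 0 from Polynomial.ext fun j => by
      rw [coeff_topPart, coeff_zero]
      split
      · rename_i hj
        rw [Finset.mem_Icc] at hj
        exact coeff_eq_zero_of_natDegree_lt (by omega)
      · rfl]
    exact nn_zero

theorem cross_topPart (ℓ d : ℕ) (P Q : ℚ[X]) :
    cross d (StabCat.topPart ℓ d P) (StabCat.topPart ℓ d Q) = StabCat.topPart ℓ d (cross d P Q) := by
  rw [cross, cross, alpha_topPart, alpha_topPart, topPart_sub, topPart_smul, topPart_smul]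

theorem natDegree_cross_le {d : ℕ} {P Q : ℚ[X]} (hP : P.natDegree ≤ d) (hQ : Q.natDegree ≤ d) :
    (cross d P Q).natDegree ≤ d :=
  (natDegree_sub_le _ _).trans (max_le ((natDegree_smul_le _ _).trans hQ) ((natDegree_smul_le _ _).trans hP))

theorem coeff_cross_sub_one (d : ℕ) (P Q : ℚ[X]) :
    (cross d P Q).coeff (d - 1) = StabCat.alpha d P * Q.coeff (d - 1) - StabCat.alpha d Q * P.coeff (d - 1) := by
  simp [cross, coeff_sub, coeff_smul]

theorem coeff_cross_self (d : ℕ) (P Q : ℚ[X]) : (cross d P Q).coeff d = 0 := by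
  simp [cross, coeff_sub, coeff_smul, StabCat.alpha]
  ring

theorem topPart_one_cross {d : ℕ} (hd : 1 ≤ d) (P Q : ℚ[X]) :
    StabCat.topPart 1 d (cross d P Q) = monomial (d - 1) ((cross d P Q).coeff (d - 1)) := by
  ext j
  rw [coeff_topPart, coeff_monomial]
  split <;> split <;> rename_i h₁ h₂
  · rw [h₂]
  · rw [Finset.mem_Icc] at h₁
    rw [show j = d by omega, coeff_cross_self]
  · rw [Finset.mem_Icc] at h₁
    omega
  · rfl

/-- Comparing the two top coefficients is comparing `hatSlope`. -/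
theorem nn_topPart_one_cross_iff {d : ℕ} (hd : 1 ≤ d) {P Q : ℚ[X]} (hP : 0 < StabCat.alpha d P)
    (hQ : 0 < StabCat.alpha d Q) :
    NN (StabCat.topPart 1 d (cross d P Q)) ↔ StabCat.hatSlope d P ≤ StabCat.hatSlope d Q := by
  rw [topPart_one_cross hd, NN, leadingCoeff_monomial, coeff_cross_sub_one, sub_nonneg, StabCat.hatSlope,
    StabCat.hatSlope, div_le_div_iff₀ hP hQ,
    show StabCat.alpha (d - 1) P = ((d - 1).factorial : ℚ) * P.coeff (d - 1) from rfl,
    show StabCat.alpha (d - 1) Q = ((d - 1).factorial : ℚ) * Q.coeff (d - 1) from rfl,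
    mul_assoc, mul_assoc, mul_le_mul_iff_of_pos_left (by positivity)]
  constructor <;> intro h <;> linarith

theorem pp_topPart_one_cross_iff {d : ℕ} (hd : 1 ≤ d) {P Q : ℚ[X]} (hP : 0 < StabCat.alpha d P)
    (hQ : 0 < StabCat.alpha d Q) :
    PP (StabCat.topPart 1 d (cross d P Q)) ↔ StabCat.hatSlope d P < StabCat.hatSlope d Q := by
  rw [topPart_one_cross hd, PP, leadingCoeff_monomial, coeff_cross_sub_one, sub_pos, StabCat.hatSlope,
    StabCat.hatSlope, div_lt_div_iff₀ hP hQ,
    show StabCat.alpha (d - 1) P = ((d - 1).factorial : ℚ) * P.coeff (d - 1) from rfl,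
    show StabCat.alpha (d - 1) Q = ((d - 1).factorial : ℚ) * Q.coeff (d - 1) from rfl,
    mul_assoc, mul_assoc, mul_lt_mul_iff_of_pos_left (by positivity)]
  constructor <;> intro h <;> linarith

end trunc

variable (k : Type u) [Field k] {X : Scheme.{u}} [X.Over (Spec (CommRingCat.of k))]
  [IsProper (X ↘ Spec (CommRingCat.of k))] {L : X.Modules} (hL : CohB1.IsAmple L)

include k in
theorem isNoetherian_of_proper : IsNoetherian X :=
  have : CompactSpace X := QuasiCompact.compactSpace_of_compactSpace (X ↘ Spec (CommRingCat.of k))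
  have : IsLocallyNoetherian X := LocallyOfFiniteType.isLocallyNoetherian (X ↘ Spec (CommRingCat.of k))
  ⟨⟩

/-! ### Objects -/

theorem dim_support_le_of_mono {S E : X.Modules} (ι : S ⟶ E) [Mono ι] {d : ℕ}
    (hd : topologicalKrullDim (CohB1.support E) ≤ (d : WithBot ℕ∞)) :
    topologicalKrullDim (CohB1.support S) ≤ (d : WithBot ℕ∞) :=
  (HilbPoly.dim_mono (support_subset_of_mono ι)).trans hd

theorem dim_support_le_of_epi {E G : X.Modules} (π : E ⟶ G) [Epi π] {d : ℕ}
    (hd : topologicalKrullDim (CohB1.support E) ≤ (d : WithBot ℕ∞)) :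
    topologicalKrullDim (CohB1.support G) ≤ (d : WithBot ℕ∞) :=
  (HilbPoly.dim_mono (support_subset_of_epi π)).trans hd

theorem dim_eq_of_isPure {E : X.Modules} {d : ℕ} (hE : Coh.IsCoh E) (h0 : ¬ IsZero E)
    (hp' : ShStab.IsPure X E d) : topologicalKrullDim (CohB1.support E) = (d : WithBot ℕ∞) :=
  hp' E (𝟙 E) inferInstance hE h0

theorem dim_le_of_isPure {E : X.Modules} {d : ℕ} (hE : Coh.IsCoh E) (hp' : ShStab.IsPure X E d) :
    topologicalKrullDim (CohB1.support E) ≤ (d : WithBot ℕ∞) := by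
  by_cases h0 : IsZero E
  · rw [HilbPoly.support_eq_empty_of_isZero h0]
    exact ((Order.krullDim_eq_bot_iff.mpr
      ⟨fun C => C.2.nonempty.elim fun z _ => z.2.elim⟩).le).trans bot_le
  · exact (dim_eq_of_isPure hE h0 hp').le

theorem isPure_congr {E E' : X.Modules} (e : E ≅ E') {d : ℕ} (h : ShStab.IsPure X E d) :
    ShStab.IsPure X E' d := fun F ι _ hF h0 => h F (ι ≫ e.inv) inferInstance hF h0

theorem isSemistable_congr {E E' : X.Modules} (e : E ≅ E') {d : ℕ} (h : ShStab.IsSemistable k X L E d) :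
    ShStab.IsSemistable k X L E' d :=
  ⟨isCoh_of_iso e h.1, fun hz => h.2.1 (hz.of_iso e), isPure_congr e h.2.2.1, fun F ι _ hF h0 hi pF pE hpF hpE =>
    h.2.2.2 F (ι ≫ e.inv) inferInstance hF h0 (fun _ => hi (IsIso.of_isIso_comp_right ι e.inv)) pF pE hpF
      (HilbPoly.hilbPoly_congr e.symm hpE)⟩

theorem isStable_congr {E E' : X.Modules} (e : E ≅ E') {d : ℕ} (h : ShStab.IsStable k X L E d) :
    ShStab.IsStable k X L E' d :=
  ⟨isCoh_of_iso e h.1, fun hz => h.2.1 (hz.of_iso e), isPure_congr e h.2.2.1, fun F ι _ hF h0 hi pF pE hpF hpE =>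
    h.2.2.2 F (ι ≫ e.inv) inferInstance hF h0 (fun _ => hi (IsIso.of_isIso_comp_right ι e.inv)) pF pE hpF
      (HilbPoly.hilbPoly_congr e.symm hpE)⟩

theorem isSemistable_of_isStable {E : X.Modules} {d : ℕ} (h : ShStab.IsStable k X L E d) :
    ShStab.IsSemistable k X L E d :=
  ⟨h.1, h.2.1, h.2.2.1, fun F ι hm hF h0 hi pF pE a b =>
    (redLE_iff d).mpr (pp_iff.mp ((redLT_iff d).mp (h.2.2.2 F ι hm hF h0 hi pF pE a b))).1⟩

include hL in
theorem alpha_pos_of_isPure {E : X.Modules} {d : ℕ} (hE : Coh.IsCoh E) (h0 : ¬ IsZero E)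
    (hp' : ShStab.IsPure X E d) : 0 < StabCat.alpha d (hp k L E) :=
  (alpha_pos_iff k hL hE (dim_le_of_isPure hE hp')).mpr (dim_eq_of_isPure hE h0 hp')

include hL in
/-- The kernel–image decomposition. -/
theorem hp_kernel_add {E G : X.Modules} (π : E ⟶ G) [Epi π] (hE : Coh.IsCoh E) (hG : Coh.IsCoh G) :
    hp k L E = hp k L (kernel π) + hp k L G ∧ Coh.IsCoh (kernel π) := by
  have := isNoetherian_of_proper k (X := X)
  have hk := isCoh_kernel π hE hG.1
  have hS : (ShortComplex.mk (kernel.ι π) π (kernel.condition π)).ShortExact :=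
    { exact := ShortComplex.exact_of_f_is_kernel _ (kernelIsKernel π) }
  refine ⟨?_, hk⟩
  have h := @hp_additive k _ X _ _ L hL _ hS hk hE hG
  exact h

include hL in
theorem hp_add_cokernel {S E : X.Modules} (ι : S ⟶ E) [Mono ι] (hS : Coh.IsCoh S) (hE : Coh.IsCoh E) :
    hp k L E = hp k L S + hp k L (cokernel ι) ∧ Coh.IsCoh (cokernel ι) :=
  by
  have hc : Coh.IsCoh (cokernel ι) := isCoh_cokernel ι hS.1 hE
  have hT := CohFinite.shortExact_cokernel ι
  refine ⟨?_, hc⟩
  have h := @hp_additive k _ X _ _ L hL _ hT hS hE hc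
  exact h

include hL in
theorem nn_cross_sub {E : X.Modules} {d : ℕ} (h : ShStab.IsSemistable k X L E d) {S : X.Modules} (ι : S ⟶ E)
    [Mono ι] (hS : Coh.IsCoh S) : NN (cross d (hp k L S) (hp k L E)) := by
  by_cases h0 : IsZero S
  · rw [hp_of_isZero k hL h0, cross_zero_left]; exact nn_zero
  by_cases hi : IsIso ι
  · rw [hp_congr k hL hS (asIso ι), cross_self]; exact nn_zero
  exact (redLE_iff d).mp (h.2.2.2 S ι inferInstance hS h0 hi _ _ (hp_spec k hL hS) (hp_spec k hL h.1))

include hL in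
theorem nn_cross_quot {E : X.Modules} {d : ℕ} (h : ShStab.IsSemistable k X L E d) {G : X.Modules} (π : E ⟶ G)
    [Epi π] (hG : Coh.IsCoh G) : NN (cross d (hp k L E) (hp k L G)) := by
  obtain ⟨e, hk⟩ := hp_kernel_add k hL π h.1 hG
  have h1 := nn_cross_sub k hL h (kernel.ι π) hk
  rw [e, cross_seesaw, ← e] at h1
  exact h1

include hL in
theorem pp_cross_sub {E : X.Modules} {d : ℕ} (h : ShStab.IsStable k X L E d) {S : X.Modules} (ι : S ⟶ E)
    [Mono ι] (hS : Coh.IsCoh S) (h0 : ¬ IsZero S) (hi : ¬ IsIso ι) : PP (cross d (hp k L S) (hp k L E)) :=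
  (redLT_iff d).mp (h.2.2.2 S ι inferInstance hS h0 hi _ _ (hp_spec k hL hS) (hp_spec k hL h.1))

include hL in
theorem pp_cross_quot {E : X.Modules} {d : ℕ} (h : ShStab.IsStable k X L E d) {G : X.Modules} (π : E ⟶ G)
    [Epi π] (hG : Coh.IsCoh G) (h0 : ¬ IsZero G) (hi : ¬ IsIso π) : PP (cross d (hp k L E) (hp k L G)) := by
  obtain ⟨e, hk⟩ := hp_kernel_add k hL π h.1 hG
  have hk0 : ¬ IsZero (kernel π) := fun hz => hi (by
    have := Preadditive.mono_of_kernel_zero (f := π) (hz.eq_of_src _ _)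
    exact isIso_of_mono_of_epi π)
  have hki : ¬ IsIso (kernel.ι π) := fun _ => h0 (by
    have : π = 0 := by rw [← cancel_epi (kernel.ι π), kernel.condition, comp_zero]
    subst this
    rw [IsZero.iff_id_eq_zero, ← cancel_epi (0 : E ⟶ G)]
    simp)
  have h1 := pp_cross_sub k hL h (kernel.ι π) hk hk0 hki
  rw [e, cross_seesaw, ← e] at h1
  exact h1

/-! ### The lattice -/

variable [IsNoetherian X] {E : X.Modules} (hE : Coh.IsCoh E) {d : ℕ}
  (hdE : topologicalKrullDim (CohB1.support E) ≤ (d : WithBot ℕ∞))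

include hdE in
theorem dim_fac_le (a b : CSub hE) (h : a ≤ b) :
    topologicalKrullDim (CohB1.support (fac hE a b h)) ≤ (d : WithBot ℕ∞) :=
  (HilbPoly.dim_mono (support_fac_subset hE a b h)).trans hdE

/-- The Hilbert polynomial valuation. -/
noncomputable def val : Val (CSub hE) d where
  v := vE hE k L
  mod := vE_mod hE k hL
  nn {a b} h := by
    rw [← hp_fac hE k hL a b h]
    exact nn_hp k hL (isCoh_fac hE a b h)
  nat {a b} h := by
    rw [← hp_fac hE k hL a b h]
    exact exists_nat_alpha k hL (isCoh_fac hE a b h) (dim_fac_le hE hdE a b h)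

/-- The truncated valuation. -/
noncomputable def valT (ℓ : ℕ) : Val (CSub hE) d where
  v a := StabCat.topPart ℓ d (vE hE k L a)
  mod a b := by rw [← topPart_add, vE_mod hE k hL, topPart_add]
  nn {a b} h := by
    rw [← topPart_sub, ← hp_fac hE k hL a b h]
    exact nn_topPart ℓ (natDegree_hp_le k hL (isCoh_fac hE a b h) (dim_fac_le hE hdE a b h))
      (nn_hp k hL (isCoh_fac hE a b h))
  nat {a b} h := by
    rw [← topPart_sub, ← hp_fac hE k hL a b h, alpha_topPart]
    exact exists_nat_alpha k hL (isCoh_fac hE a b h) (dim_fac_le hE hdE a b h)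

local notation "V" => val k hL hE hdE

theorem δ_eq {a b : CSub hE} (h : a ≤ b) : (V).δ a b = hp k L (fac hE a b h) :=
  (hp_fac hE k hL a b h).symm

theorem δT_eq (ℓ : ℕ) (a b : CSub hE) :
    (valT k hL hE hdE ℓ).δ a b = StabCat.topPart ℓ d ((V).δ a b) := (topPart_sub ℓ d _ _).symm

theorem pureT_iff (ℓ : ℕ) (a b : CSub hE) : (valT k hL hE hdE ℓ).Pure a b ↔ (V).Pure a b := by
  simp only [Val.Pure, δT_eq, alpha_topPart]

theorem strict {a b : CSub hE} (h : a < b) : PP ((V).δ a b) := by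
  rw [δ_eq k hL hE hdE h.le]
  exact pp_hp k hL (isCoh_fac hE a b h.le) fun hz => h.ne ((isZero_fac_iff hE k hL a b h.le).mp hz)

theorem δ_bot_top : (V).δ ⊥ ⊤ = hp k L E := by
  change vE hE k L ⊤ - vE hE k L ⊥ = _
  rw [vE_top hE k hL, vE_bot hE k hL, sub_zero]

include hdE hL in
theorem isPure_fac_iff {a b : CSub hE} (h : a ≤ b) :
    ShStab.IsPure X (fac hE a b h) d ↔ (V).Pure a b := by
  constructor
  · intro hp' c hac hcb
    have h1 := hp' (fac hE a c hac.le) (facMap hE hac.le hcb) inferInstance (isCoh_fac hE _ _ _)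
      fun hz => hac.ne ((isZero_fac_iff hE k hL a c hac.le).mp hz)
    rw [δ_eq k hL hE hdE hac.le]
    exact (alpha_pos_iff k hL (isCoh_fac hE _ _ _) h1.le).mpr h1
  · intro hP S ι _ hS h0
    obtain ⟨c, hac, hcb, ⟨e⟩⟩ := exists_of_mono_fac hE h ι hS
    have hlt : a < c := hac.lt_of_ne fun he => h0 (((isZero_fac_iff hE k hL a c hac).mpr he).of_iso e)
    rw [support_eq_of_iso e]
    have := hP c hlt hcb
    rw [δ_eq k hL hE hdE hac] at this
    exact (alpha_pos_iff k hL (isCoh_fac hE _ _ _) (dim_fac_le hE hdE a c hac)).mp this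

include hdE hL in
theorem isSemistable_fac_iff {a b : CSub hE} (h : a ≤ b) :
    ShStab.IsSemistable k X L (fac hE a b h) d ↔ a < b ∧ (V).SS a b := by
  constructor
  · intro hs
    refine ⟨h.lt_of_ne fun he => hs.2.1 ((isZero_fac_iff hE k hL a b h).mpr he),
      (isPure_fac_iff k hL hE hdE h).mp hs.2.2.1, fun c hac hcb => ?_⟩
    rw [δ_eq k hL hE hdE hac, δ_eq k hL hE hdE h]
    exact nn_cross_sub k hL hs (facMap hE hac hcb) (isCoh_fac hE _ _ _)
  · rintro ⟨hlt, hP, hs⟩
    refine ⟨isCoh_fac hE _ _ _, fun hz => hlt.ne ((isZero_fac_iff hE k hL a b h).mp hz),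
      (isPure_fac_iff k hL hE hdE h).mpr hP, fun S ι _ hS _ _ pS pE hpS hpE => ?_⟩
    obtain ⟨c, hac, hcb, ⟨e⟩⟩ := exists_of_mono_fac hE h ι hS
    rw [redLE_iff, eq_hp k hL hS hpS, eq_hp k hL (isCoh_fac hE _ _ _) hpE, hp_congr k hL hS e,
      ← δ_eq k hL hE hdE hac, ← δ_eq k hL hE hdE h]
    exact hs c hac hcb

include hdE hL in
theorem isStable_fac_iff {a b : CSub hE} (h : a ≤ b) :
    ShStab.IsStable k X L (fac hE a b h) d ↔ (V).St a b := by
  constructor
  · intro hs
    refine ⟨h.lt_of_ne fun he => hs.2.1 ((isZero_fac_iff hE k hL a b h).mpr he),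
      (isPure_fac_iff k hL hE hdE h).mp hs.2.2.1, fun c hac hcb => ?_⟩
    rw [δ_eq k hL hE hdE hac.le, δ_eq k hL hE hdE h]
    refine pp_cross_sub k hL hs (facMap hE hac.le hcb.le) (isCoh_fac hE _ _ _)
      (fun hz => hac.ne ((isZero_fac_iff hE k hL a c hac.le).mp hz)) fun _ => ?_
    have e := hp_congr k hL (isCoh_fac hE a c hac.le) (asIso (facMap hE hac.le hcb.le))
    rw [hp_fac hE k hL, hp_fac hE k hL] at e
    refine (pp_iff.mp (strict k hL hE hdE hcb)).2 ?_
    change vE hE k L b - vE hE k L c = 0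
    linear_combination -e
  · rintro ⟨hlt, hP, hs⟩
    refine ⟨isCoh_fac hE _ _ _, fun hz => hlt.ne ((isZero_fac_iff hE k hL a b h).mp hz),
      (isPure_fac_iff k hL hE hdE h).mpr hP, fun S ι _ hS h0 hi pS pE hpS hpE => ?_⟩
    obtain ⟨c, hac, hcb, ⟨e⟩⟩ := exists_of_mono_fac hE h ι hS
    have hca : a < c := hac.lt_of_ne fun he => h0 (((isZero_fac_iff hE k hL a c hac).mpr he).of_iso e)
    have hcb' : c < b := hcb.lt_of_ne fun he => hi (by
      obtain ⟨e1, hcok⟩ := hp_add_cokernel k hL ι hS (isCoh_fac hE a b h)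
      rw [hp_congr k hL hS e] at e1
      subst he
      have := isZero_of_hp_eq_zero k hL hcok (by linear_combination -e1)
      have : Epi ι := Preadditive.epi_of_cokernel_zero (this.eq_of_tgt _ _)
      exact isIso_of_mono_of_epi ι)
    rw [redLT_iff, eq_hp k hL hS hpS, eq_hp k hL (isCoh_fac hE _ _ _) hpE, hp_congr k hL hS e,
      ← δ_eq k hL hE hdE hac, ← δ_eq k hL hE hdE h]
    exact hs c hca hcb'

include hdE hL in
theorem pure_bot_top (h : ShStab.IsPure X E d) : (V).Pure ⊥ ⊤ :=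
  (isPure_fac_iff k hL hE hdE bot_le).mp (isPure_congr (nonempty_fac_top hE).some.symm h)

include hdE hL in
theorem ss_bot_top (h : ShStab.IsSemistable k X L E d) : (V).SS ⊥ ⊤ :=
  ((isSemistable_fac_iff k hL hE hdE bot_le).mp (isSemistable_congr k (nonempty_fac_top hE).some.symm h)).2

include k hL in
theorem bot_lt_top (h : ¬ IsZero E) : (⊥ : CSub hE) < ⊤ :=
  (bot_le : (⊥ : CSub hE) ≤ ⊤).lt_of_ne fun he =>
    h (((isZero_fac_iff hE k hL ⊥ ⊤ bot_le).mpr he).of_iso (nonempty_fac_top hE).some.symm)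

/-! ### Chains -/

/-- Forget coherence along a chain. -/
noncomputable def toSub (s : LTSeries (CSub hE)) : LTSeries (Subobject E) :=
  s.map CSub.val fun _ _ h => h

include hE in
/-- A chain with coherent factors consists of coherent submodules. -/
theorem isQSub_of_factor (s : LTSeries (Subobject E)) (h0 : s.head = ⊥)
    (hf : ∀ i : Fin s.length, Coh.IsCoh (StabCat.factor s i)) : ∀ i, IsQSub (s i) := by
  intro i
  induction i using Fin.induction with
  | zero =>
    rw [show s 0 = ⊥ from h0]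
    exact isQuasicoherent_of_isZero ((isZero_zero _).of_iso Subobject.botCoeIsoZero)
  | succ i ih =>
    have hS := CohFinite.shortExact_cokernel (Subobject.ofLE (s i.castSucc) (s i.succ) (le_of_lt (s.step i)))
    exact (isCoh_of_extension _ hS (isCoh_qsub hE ih) (hf i)).1

/-- Lift a chain with coherent terms. -/
noncomputable def ofSub (s : LTSeries (Subobject E)) (h : ∀ i, IsQSub (s i)) : LTSeries (CSub hE) :=
  ⟨s.length, fun i => ⟨s i, h i⟩, fun i => s.step i⟩

theorem toSub_ofSub (s : LTSeries (Subobject E)) (h : ∀ i, IsQSub (s i)) : toSub hE (ofSub hE s h) = s := rfl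

theorem factor_toSub (s : LTSeries (CSub hE)) (i : Fin s.length) :
    StabCat.factor (toSub hE s) i = fac hE (s i.castSucc) (s i.succ) (s.step i).le := rfl

theorem ofSub_toSub (s : LTSeries (CSub hE)) (h : ∀ i, IsQSub ((toSub hE s) i)) : ofSub hE (toSub hE s) h = s := rfl

end Groth.Agent.ShStabLib
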