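import Groth.Agent.ShStabLib.Hp
import Groth.Agent.StabLattice.Lattice
import Groth.Agent.QCohLib.Biprod
import Groth.Agent.QCohLib.Cover
import Mathlib.CategoryTheory.Subobject.Lattice
import Mathlib.CategoryTheory.Abelian.Basic

/-!
# The lattice of coherent submodules of a coherent module

`CSub`, `fac`, `val`, `valT`, `exists_fac_hom`, `exists_of_mono_fac`, `nonempty_second_iso`.
-/

universe u

open CategoryTheory CategoryTheory.Limits AlgebraicGeometry Opposite TopologicalSpace
open Groth.Agent.StabLattice Groth.Agent.QCohLib Groth.Agent.CohFinite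

set_option backward.isDefEq.respectTransparency false

namespace Groth.Agent.ShStabLib

attribute [local instance] Abelian.hasFiniteBiproducts

variable {X : Scheme.{u}} [IsNoetherian X] {E : X.Modules} (hE : Coh.IsCoh E)

/-- Quasi-coherent subobjects. -/
def IsQSub (A : Subobject E) : Prop := ((A : X.Modules)).IsQuasicoherent

include hE in
theorem isCoh_qsub {A : Subobject E} (hA : IsQSub A) : Coh.IsCoh (A : X.Modules) :=
  isCoh_of_mono A.arrow hE hA

include hE in
theorem qsub_sup {A B : Subobject E} (hA : IsQSub A) (hB : IsQSub B) : IsQSub (A ⊔ B) := by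
  let φ := biprod.desc A.arrow B.arrow
  let S := imageSubobject φ
  have hS : S = A ⊔ B := by
    refine le_antisymm (imageSubobject_le φ (biprod.desc (Subobject.ofLE A (A ⊔ B) le_sup_left)
      (Subobject.ofLE B (A ⊔ B) le_sup_right)) ?_) (sup_le ?_ ?_)
    · apply biprod.hom_ext' <;> simp [φ]
    · exact Subobject.le_of_comm (biprod.inl ≫ factorThruImageSubobject φ) (by simp [S, φ])
    · exact Subobject.le_of_comm (biprod.inr ≫ factorThruImageSubobject φ) (by simp [S, φ])
  rw [← hS]
  have hc : Coh.IsCoh ((A : X.Modules) ⊞ (B : X.Modules)) := isCoh_biprod (isCoh_qsub hE hA) (isCoh_qsub hE hB)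
  have : ((A : X.Modules) ⊞ (B : X.Modules)).IsQuasicoherent := hc.1
  have := hE.1
  have : (cokernel φ).IsQuasicoherent := isQuasicoherent_cokernel φ
  have : (Abelian.image φ).IsQuasicoherent := isQuasicoherent_kernel _
  exact isQuasicoherent_of_iso (Abelian.imageIsoImage φ ≪≫ (imageSubobjectIso φ).symm)

include hE in
theorem qsub_inf {A B : Subobject E} (hA : IsQSub A) (hB : IsQSub B) : IsQSub (A ⊓ B) := by
  have := hE.1
  have hS : Subobject.mk (pullback.fst A.arrow B.arrow ≫ A.arrow) = A ⊓ B := by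
    refine le_antisymm (le_inf ?_ ?_) ?_
    · exact Subobject.mk_le_of_comm (pullback.fst _ _) rfl
    · exact Subobject.mk_le_of_comm (pullback.snd _ _) pullback.condition.symm
    · exact Subobject.le_mk_of_comm (pullback.lift (Subobject.ofLE _ A inf_le_left) (Subobject.ofLE _ B inf_le_right)
        (by simp)) (by simp)
  rw [← hS]
  have h := (isCoh_pullback_limit A.arrow B.arrow (isCoh_qsub hE hA) (isCoh_qsub hE hB)).1
  exact isQuasicoherent_of_iso (Subobject.underlyingIso (pullback.fst A.arrow B.arrow ≫ A.arrow)).symm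

/-- The lattice of coherent submodules. -/
structure CSub (hE : Coh.IsCoh E) where
  /-- the submodule -/
  val : Subobject E
  property : IsQSub val

theorem CSub.val_injective : Function.Injective (CSub.val : CSub hE → Subobject E) := by
  rintro ⟨a, ha⟩ ⟨b, hb⟩ rfl
  rfl

noncomputable instance : PartialOrder (CSub hE) := PartialOrder.lift CSub.val (CSub.val_injective hE)

noncomputable instance : Lattice (CSub hE) :=
  { (inferInstance : PartialOrder (CSub hE)) with
    sup := fun a b => ⟨a.1 ⊔ b.1, qsub_sup hE a.2 b.2⟩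
    inf := fun a b => ⟨a.1 ⊓ b.1, qsub_inf hE a.2 b.2⟩
    le_sup_left := fun a b => (le_sup_left : a.1 ≤ a.1 ⊔ b.1)
    le_sup_right := fun a b => (le_sup_right : b.1 ≤ a.1 ⊔ b.1)
    sup_le := fun a b c h h' => (sup_le h h' : a.1 ⊔ b.1 ≤ c.1)
    inf_le_left := fun a b => (inf_le_left : a.1 ⊓ b.1 ≤ a.1)
    inf_le_right := fun a b => (inf_le_right : a.1 ⊓ b.1 ≤ b.1)
    le_inf := fun a b c h h' => (le_inf h h' : a.1 ≤ b.1 ⊓ c.1) }

noncomputable instance : BoundedOrder (CSub hE) where
  top := ⟨⊤, @isQuasicoherent_of_iso _ _ _ (asIso (⊤ : Subobject E).arrow).symm hE.1⟩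
  le_top a := (le_top : a.1 ≤ ⊤)
  bot := ⟨⊥, isQuasicoherent_of_isZero ((isZero_zero _).of_iso Subobject.botCoeIsoZero)⟩
  bot_le a := (bot_le : ⊥ ≤ a.1)

instance : WellFoundedGT (CSub hE) := by
  refine ⟨(RelEmbedding.wellFounded_iff_isEmpty).mpr ⟨fun F => ?_⟩⟩
  have hmono : StrictMono fun n => (F n).1 := strictMono_nat_of_lt_succ fun n => F.map_rel_iff.mpr (Nat.lt_succ_self n)
  obtain ⟨n, hn⟩ := subobject_chain_stabilizes hE ⟨fun n => (F n).1, hmono.monotone⟩ fun n => (F n).2
  exact (hmono (Nat.lt_succ_self n)).ne' (hn (n + 1) (Nat.le_succ n))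

/-- The subquotient of an interval. -/
noncomputable def fac (a b : CSub hE) (h : a ≤ b) : X.Modules := cokernel (Subobject.ofLE a.1 b.1 h)

theorem isCoh_fac (a b : CSub hE) (h : a ≤ b) : Coh.IsCoh (fac hE a b h) :=
  isCoh_cokernel _ a.2 (isCoh_qsub hE b.2)

theorem shortExact_fac (a b : CSub hE) (h : a ≤ b) :
    (ShortComplex.mk _ _ (cokernel.condition (Subobject.ofLE a.1 b.1 h))).ShortExact :=
  CohFinite.shortExact_cokernel _

theorem exists_lift {a b : CSub hE} (h : a ≤ b) {T : X.Modules} (g : T ⟶ (b.1 : X.Modules))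
    (hg : g ≫ cokernel.π (Subobject.ofLE a.1 b.1 h) = 0) : ∃ l : T ⟶ (a.1 : X.Modules), l ≫ Subobject.ofLE a.1 b.1 h = g :=
  ⟨Abelian.monoLift _ g hg, Abelian.monoLift_comp _ _ _⟩

/-- The map between intervals with the same bottom. -/
noncomputable def facMap {a c b : CSub hE} (hac : a ≤ c) (hcb : c ≤ b) :
    fac hE a c hac ⟶ fac hE a b (hac.trans hcb) :=
  cokernel.desc _ (Subobject.ofLE c.1 b.1 hcb ≫ cokernel.π (Subobject.ofLE a.1 b.1 (hac.trans hcb))) (by
    rw [← Category.assoc, Subobject.ofLE_comp_ofLE]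
    exact cokernel.condition (Subobject.ofLE a.1 b.1 (hac.trans hcb)))

instance mono_facMap {a c b : CSub hE} (hac : a ≤ c) (hcb : c ≤ b) : Mono (facMap hE hac hcb) := by
  refine Preadditive.mono_of_cancel_zero _ fun {T} g hg => ?_
  let p := pullback.fst g (cokernel.π (Subobject.ofLE a.1 c.1 hac))
  let g' := pullback.snd g (cokernel.π (Subobject.ofLE a.1 c.1 hac))
  have h1 : (g' ≫ Subobject.ofLE c.1 b.1 hcb) ≫ cokernel.π (Subobject.ofLE a.1 b.1 (hac.trans hcb)) = 0 := by
    have e : g' ≫ cokernel.π (Subobject.ofLE a.1 c.1 hac) ≫ facMap hE hac hcb = p ≫ g ≫ facMap hE hac hcb := by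
      simp only [g', p]
      rw [← Category.assoc, ← pullback.condition, Category.assoc]
    rw [hg, comp_zero, facMap, cokernel.π_desc] at e
    rw [Category.assoc]; exact e
  obtain ⟨l, hl⟩ := exists_lift hE _ _ h1
  have h2 : g' = l ≫ Subobject.ofLE a.1 c.1 hac := by
    rw [← cancel_mono (Subobject.ofLE c.1 b.1 hcb), ← hl, Category.assoc, Subobject.ofLE_comp_ofLE]
  have h3 : p ≫ g = 0 := by
    simp only [p]
    rw [pullback.condition]
    change g' ≫ _ = 0
    rw [h2, Category.assoc, cokernel.condition, comp_zero]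
  exact (cancel_epi p).mp (h3.trans comp_zero.symm)

/-- Second isomorphism theorem. -/
theorem nonempty_second_iso (a b : CSub hE) :
    Nonempty (fac hE (a ⊓ b) b inf_le_right ≅ fac hE a (a ⊔ b) le_sup_left) := by
  let i := Subobject.ofLE (a ⊓ b).1 b.1 (show (a ⊓ b).1 ≤ b.1 from inf_le_right (a := a.1))
  let j := Subobject.ofLE b.1 (a ⊔ b).1 (show b.1 ≤ (a ⊔ b).1 from le_sup_right (a := a.1))
  let oa := Subobject.ofLE a.1 (a ⊔ b).1 (show a.1 ≤ (a ⊔ b).1 from le_sup_left (b := b.1))
  have hw : i ≫ j ≫ cokernel.π oa = 0 := by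
    rw [← Category.assoc, Subobject.ofLE_comp_ofLE,
      ← Subobject.ofLE_comp_ofLE (a ⊓ b).1 a.1 (a ⊔ b).1 (show (a ⊓ b).1 ≤ a.1 from inf_le_left (b := b.1))
        (show a.1 ≤ (a ⊔ b).1 from le_sup_left (b := b.1)),
      Category.assoc, cokernel.condition, comp_zero]
  let φ := cokernel.desc i (j ≫ cokernel.π oa) hw
  have : Mono φ := by
    refine Preadditive.mono_of_cancel_zero _ fun {T} g hg => ?_
    let p := pullback.fst g (cokernel.π i)
    let g' := pullback.snd g (cokernel.π i)
    have h1 : (g' ≫ j) ≫ cokernel.π oa = 0 := by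
      have e : g' ≫ cokernel.π i ≫ φ = p ≫ g ≫ φ := by
        simp only [g', p]
        rw [← Category.assoc, ← pullback.condition, Category.assoc]
      rw [hg, comp_zero, cokernel.π_desc] at e
      rw [Category.assoc]; exact e
    obtain ⟨l, hl⟩ := exists_lift hE (le_sup_left : a ≤ a ⊔ b) _ h1
    have hla : l ≫ a.1.arrow = g' ≫ b.1.arrow := by
      have := congrArg (fun m => m ≫ (a ⊔ b).1.arrow) hl
      simpa [j] using this
    have hf : (a ⊓ b).1.Factors (g' ≫ b.1.arrow) :=
      (Subobject.inf_factors (X := a.1) (Y := b.1) _).mpr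
        ⟨hla ▸ Subobject.factors_comp_arrow l, Subobject.factors_comp_arrow g'⟩
    have h2 : g' = (a ⊓ b).1.factorThru _ hf ≫ i := by
      rw [← cancel_mono b.1.arrow, Category.assoc, Subobject.ofLE_arrow, Subobject.factorThru_arrow]
    have h3 : p ≫ g = 0 := by
      simp only [p]
      rw [pullback.condition]
      change g' ≫ _ = 0
      rw [h2, Category.assoc, cokernel.condition, comp_zero]
    exact (cancel_epi p).mp (h3.trans comp_zero.symm)
  have : Epi φ := by
    refine Preadditive.epi_of_cancel_zero _ fun {T} g hg => ?_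
    have h1 : j ≫ cokernel.π oa ≫ g = 0 := by
      rw [← Category.assoc, ← cokernel.π_desc i (j ≫ cokernel.π oa) hw, Category.assoc]
      change _ ≫ φ ≫ g = 0
      rw [hg, comp_zero]
    -- both summands land in the kernel, so everything does
    let K := cokernel.π oa ≫ g
    let Ks := Subobject.mk (kernel.ι K ≫ (a ⊔ b).1.arrow)
    have hle : (a ⊔ b).1 ≤ Ks := sup_le
      (Subobject.le_mk_of_comm (kernel.lift K oa (by simp [K])) (by simp [oa]))
      (Subobject.le_mk_of_comm (kernel.lift K j h1) (by simp [j]))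
    have h2 : K = 0 := by
      have e : (Subobject.ofLEMk _ _ hle ≫ kernel.ι K) = 𝟙 _ := by
        rw [← cancel_mono (a ⊔ b).1.arrow, Category.assoc, Subobject.ofLEMk_comp, Category.id_comp]
      rw [← Category.id_comp K, ← e, Category.assoc, kernel.condition, comp_zero]
    exact (cancel_epi (cokernel.π oa)).mp (h2.trans comp_zero.symm)
  have := isIso_of_mono_of_epi φ
  exact ⟨asIso φ⟩

/-- Coherent submodules of a subquotient come from the interval. -/
theorem exists_of_mono_fac {a b : CSub hE} (h : a ≤ b) {S : X.Modules} (κ : S ⟶ fac hE a b h) [Mono κ]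
    (hS : Coh.IsCoh S) : ∃ c : CSub hE, ∃ hac : a ≤ c, c ≤ b ∧ Nonempty (S ≅ fac hE a c hac) := by
  have := (isCoh_fac hE a b h).1
  let π := cokernel.π (Subobject.ofLE a.1 b.1 h)
  have : (cokernel (Subobject.ofLE a.1 b.1 h)).IsQuasicoherent := (isCoh_fac hE a b h).1
  have hc := isCoh_pullback_limit π κ (isCoh_qsub hE b.2) hS
  let m := pullback.fst π κ ≫ b.1.arrow
  have : Mono m := mono_comp _ _
  let c : CSub hE := ⟨Subobject.mk m, @isQuasicoherent_of_iso _ _ _ (Subobject.underlyingIso m).symm hc.1⟩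
  let l : (a.1 : X.Modules) ⟶ pullback π κ :=
    pullback.lift (Subobject.ofLE a.1 b.1 h) 0 (by rw [zero_comp]; exact cokernel.condition _)
  have hac : a ≤ c := Subobject.le_mk_of_comm (f := m) l (by simp [l, m])
  have hcb : c ≤ b := Subobject.mk_le_of_comm (pullback.fst π κ) rfl
  refine ⟨c, hac, hcb, ?_⟩
  let q := (Subobject.underlyingIso m).hom ≫ pullback.snd π κ
  have hq : Subobject.ofLE a.1 c.1 hac ≫ q = 0 := by
    have : Subobject.ofLE a.1 c.1 hac ≫ (Subobject.underlyingIso m).hom = l := by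
      rw [← cancel_mono m, Category.assoc, Subobject.underlyingIso_hom_comp_eq_mk]
      rw [show (Subobject.mk m).arrow = c.1.arrow from rfl, Subobject.ofLE_arrow]
      simp [l, m]
    simp only [q]
    rw [← Category.assoc, this]
    simp [l]
  let φ := cokernel.desc _ q hq
  have hφ : φ ≫ κ = facMap hE hac hcb := by
    apply coequalizer.hom_ext
    rw [show facMap hE hac hcb = cokernel.desc _ _ _ from rfl]
    simp only [φ]
    rw [← Category.assoc, cokernel.π_desc, cokernel.π_desc]
    simp only [q, Category.assoc]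
    rw [← pullback.condition, ← Category.assoc]
    congr 1
    rw [← cancel_mono b.1.arrow, Category.assoc, Subobject.ofLE_arrow,
      Subobject.underlyingIso_hom_comp_eq_mk]
  have : Mono (φ ≫ κ) := by rw [hφ]; infer_instance
  have : Mono φ := mono_of_mono φ κ
  have : Epi φ := by
    have : Epi (cokernel.π (Subobject.ofLE a.1 c.1 hac) ≫ φ) := by rw [cokernel.π_desc]; exact epi_comp _ _
    exact epi_of_epi (cokernel.π _) φ
  have := isIso_of_mono_of_epi φ
  exact ⟨(asIso φ).symm⟩

/-- The whole interval is the module. -/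
theorem nonempty_fac_top : Nonempty (fac hE ⊥ ⊤ bot_le ≅ E) := by
  have hz : IsZero ((⊥ : CSub hE).1 : X.Modules) := (isZero_zero _).of_iso Subobject.botCoeIsoZero
  have h0 : Subobject.ofLE (⊥ : CSub hE).1 (⊤ : CSub hE).1 bot_le = 0 := hz.eq_of_src _ _
  have : IsIso (⊤ : CSub hE).1.arrow := inferInstanceAs (IsIso (⊤ : Subobject E).arrow)
  exact ⟨cokernelIsoOfEq h0 ≪≫ cokernelZeroIsoTarget ≪≫ asIso (⊤ : CSub hE).1.arrow⟩

theorem support_fac_subset (a b : CSub hE) (h : a ≤ b) : CohB1.support (fac hE a b h) ⊆ CohB1.support E :=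
  (support_subset_of_epi (cokernel.π _)).trans (support_subset_of_mono b.1.arrow)

variable (k : Type u) [Field k] [X.Over (Spec (CommRingCat.of k))]
  [IsProper (X ↘ Spec (CommRingCat.of k))] {L : X.Modules} (hL : CohB1.IsAmple L)

/-- The value of a coherent submodule. -/
noncomputable def vE (L : X.Modules) (a : CSub hE) : Polynomial ℚ := hp k L (a.1 : X.Modules)

include hL in
theorem hp_fac (a b : CSub hE) (h : a ≤ b) : hp k L (fac hE a b h) = vE hE k L b - vE hE k L a := by
  have := hp_additive k hL (shortExact_fac hE a b h) (isCoh_qsub hE a.2) (isCoh_qsub hE b.2) (isCoh_fac hE a b h)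
  rw [vE, vE]
  exact eq_sub_of_add_eq' this.symm

include hL in
theorem vE_mod (a b : CSub hE) : vE hE k L (a ⊓ b) + vE hE k L (a ⊔ b) = vE hE k L a + vE hE k L b := by
  obtain ⟨e⟩ := nonempty_second_iso hE a b
  have h := hp_congr k hL (isCoh_fac hE _ _ _) e
  rw [hp_fac hE k hL, hp_fac hE k hL] at h
  linear_combination -h

include hL in
theorem vE_bot : vE hE k L ⊥ = 0 :=
  hp_of_isZero k hL ((isZero_zero _).of_iso Subobject.botCoeIsoZero)

include hL in
theorem vE_top : vE hE k L ⊤ = hp k L E :=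
  hp_congr k hL (isCoh_qsub hE (⊤ : CSub hE).2)
    (haveI : IsIso (⊤ : CSub hE).1.arrow := inferInstanceAs (IsIso (⊤ : Subobject E).arrow)
     asIso (⊤ : CSub hE).1.arrow)

include k hL in
theorem isZero_fac_iff (a b : CSub hE) (h : a ≤ b) : IsZero (fac hE a b h) ↔ a = b := by
  constructor
  · intro hz
    have : Epi (Subobject.ofLE a.1 b.1 h) := Preadditive.epi_of_cokernel_zero (hz.eq_of_tgt _ _)
    have := isIso_of_mono_of_epi (Subobject.ofLE a.1 b.1 h)
    exact le_antisymm h (Subobject.le_of_comm (inv (Subobject.ofLE a.1 b.1 h))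
      (by rw [IsIso.inv_comp_eq, Subobject.ofLE_arrow]))
  · rintro rfl
    exact isZero_of_hp_eq_zero k hL (isCoh_fac hE _ _ _) (by rw [hp_fac hE k hL, sub_self])

end Groth.Agent.ShStabLib
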