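import Groth.Agent.StabLattice.Poly
import Groth.Agent.QCohLib.Coherent

/-!
# The Hilbert polynomial as a function

`hp`, `hp_spec`, `pp_hp`, `hp_additive`, `exists_nat_alpha`, `alpha_pos_iff`.
-/

universe u

open CategoryTheory CategoryTheory.Limits AlgebraicGeometry Opposite TopologicalSpace
open Groth.Agent.StabLattice

set_option backward.isDefEq.respectTransparency false

namespace Groth.Agent.ShStabLib

variable (k : Type u) [Field k] {X : Scheme.{u}} [X.Over (Spec (CommRingCat.of k))]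

/-- A Hilbert polynomial, when one exists. -/
noncomputable def hp (L M : X.Modules) : Polynomial ℚ :=
  Classical.epsilon (ShStab.IsHilbPoly k X L M)

variable [IsProper (X ↘ Spec (CommRingCat.of k))] {L : X.Modules} (hL : CohB1.IsAmple L)

include hL in
theorem hp_spec {M : X.Modules} (hM : Coh.IsCoh M) : ShStab.IsHilbPoly k X L M (hp k L M) := by
  obtain ⟨D, hD⟩ := HilbPoly.exists_dim_le k X
  obtain ⟨P, -, hP⟩ := HilbPoly.exists_hilbPoly' (k := k) hL.1 hM (hD _)
  exact Classical.epsilon_spec ⟨P, hP⟩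

include hL in
theorem eq_hp {M : X.Modules} (hM : Coh.IsCoh M) {P : Polynomial ℚ} (hP : ShStab.IsHilbPoly k X L M P) :
    P = hp k L M :=
  HilbPoly.hilbPoly_unique hP (hp_spec k hL hM)

include hL in
theorem forall_hp_iff {M : X.Modules} (hM : Coh.IsCoh M) (p : Polynomial ℚ → Prop) :
    (∀ P, ShStab.IsHilbPoly k X L M P → p P) ↔ p (hp k L M) :=
  ⟨fun h => h _ (hp_spec k hL hM), fun h P hP => eq_hp k hL hM hP ▸ h⟩

include hL in
theorem hp_congr {M N : X.Modules} (hM : Coh.IsCoh M) (e : M ≅ N) : hp k L M = hp k L N :=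
  eq_hp k hL (QCohLib.isCoh_of_iso e hM) (HilbPoly.hilbPoly_congr e (hp_spec k hL hM))

include hL in
theorem hp_additive {S : ShortComplex X.Modules} (hS : S.ShortExact) (h₁ : Coh.IsCoh S.X₁)
    (h₂ : Coh.IsCoh S.X₂) (h₃ : Coh.IsCoh S.X₃) : hp k L S.X₂ = hp k L S.X₁ + hp k L S.X₃ :=
  HilbPoly.hilbPoly_additive hL.1 hS h₁ h₂ h₃ (hp_spec k hL h₁) (hp_spec k hL h₂) (hp_spec k hL h₃)

include k in
theorem exists_dim_support {M : X.Modules} (h : ¬ IsZero M) :
    ∃ d : ℕ, topologicalKrullDim (CohB1.support M) = d := by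
  obtain ⟨D, hD⟩ := HilbPoly.exists_dim_le k X
  have h1 := hD (CohB1.support M)
  have hne : (CohB1.support M).Nonempty := by
    by_contra hc
    exact h (HilbPoly.isZero_of_support_empty (Set.not_nonempty_iff_eq_empty.mp hc))
  have : Nonempty (IrreducibleCloseds (CohB1.support M)) := ⟨⟨closure {(⟨_, hne.some_mem⟩ : CohB1.support M)},
    isIrreducible_singleton.closure, isClosed_closure⟩⟩
  have h0 : (0 : WithBot ℕ∞) ≤ topologicalKrullDim (CohB1.support M) := Order.krullDim_nonneg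
  generalize topologicalKrullDim (CohB1.support M) = a at h0 h1
  induction a using WithBot.recBotCoe with
  | bot => exact absurd h0 (by simp)
  | coe a =>
    have h2 : a ≤ (D : ℕ∞) := WithBot.coe_le_coe.mp h1
    obtain ⟨n, rfl⟩ := ENat.ne_top_iff_exists.mp (ne_top_of_le_ne_top (ENat.coe_ne_top D) h2)
    exact ⟨n, rfl⟩

include hL in
theorem natDegree_hp_le {M : X.Modules} (hM : Coh.IsCoh M) {d : ℕ}
    (hd : topologicalKrullDim (CohB1.support M) ≤ (d : WithBot ℕ∞)) : (hp k L M).natDegree ≤ d := by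
  obtain ⟨P, hP, hP'⟩ := HilbPoly.exists_hilbPoly' (k := k) hL.1 hM hd
  rwa [← eq_hp k hL hM hP']

include hL in
theorem hp_of_isZero {M : X.Modules} (h : IsZero M) : hp k L M = 0 := by
  obtain ⟨P, hP, hP'⟩ := HilbPoly.exists_hilbPoly (k := k) hL.1 (QCohLib.isCoh_of_isZero h) (d := 0) (by
    rw [HilbPoly.support_eq_empty_of_isZero h]
    exact (Order.krullDim_eq_bot_iff.mpr
      ⟨fun C => C.2.nonempty.elim fun z _ => z.2.elim⟩).trans_lt (WithBot.bot_lt_coe _))
  rw [← eq_hp k hL (QCohLib.isCoh_of_isZero h) hP']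
  exact Polynomial.ext fun j => hP j (Nat.zero_le _)

include hL in
theorem pp_hp {M : X.Modules} (hM : Coh.IsCoh M) (h : ¬ IsZero M) : PP (hp k L M) := by
  obtain ⟨d, hd⟩ := exists_dim_support k h
  have h1 := HilbPoly.coeff_top_pos k hL hM hd (hp_spec k hL hM)
  rw [PP, Polynomial.leadingCoeff,
    le_antisymm (natDegree_hp_le k hL hM hd.le) (Polynomial.le_natDegree_of_ne_zero h1.ne')]
  exact h1

include hL in
theorem nn_hp {M : X.Modules} (hM : Coh.IsCoh M) : NN (hp k L M) := by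
  by_cases h : IsZero M
  · rw [hp_of_isZero k hL h]; exact nn_zero
  · exact (pp_iff.mp (pp_hp k hL hM h)).1

include hL in
theorem isZero_of_hp_eq_zero {M : X.Modules} (hM : Coh.IsCoh M) (h : hp k L M = 0) : IsZero M := by
  by_contra hne
  exact (pp_iff.mp (pp_hp k hL hM hne)).2 h

include hL in
theorem exists_nat_alpha {M : X.Modules} (hM : Coh.IsCoh M) {d : ℕ}
    (hd : topologicalKrullDim (CohB1.support M) ≤ (d : WithBot ℕ∞)) :
    ∃ n : ℕ, StabCat.alpha d (hp k L M) = n := by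
  obtain ⟨z, hz⟩ := exists_int_alpha d (natDegree_hp_le k hL hM hd) fun m => ⟨_, ((hp_spec k hL hM) m).symm⟩
  have h0 : (0 : ℚ) ≤ z := by
    rw [← hz]
    exact mul_nonneg (by positivity) (HilbPoly.coeff_top_nonneg k hL hM hd (hp_spec k hL hM))
  exact ⟨z.toNat, by rw [hz]; exact_mod_cast (Int.toNat_of_nonneg (by exact_mod_cast h0)).symm⟩

include hL in
theorem alpha_hp_eq_zero {M : X.Modules} (hM : Coh.IsCoh M) {d : ℕ}
    (hd : topologicalKrullDim (CohB1.support M) < (d : WithBot ℕ∞)) : StabCat.alpha d (hp k L M) = 0 := by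
  obtain ⟨P, hP, hP'⟩ := HilbPoly.exists_hilbPoly (k := k) hL.1 hM hd
  rw [StabCat.alpha, ← eq_hp k hL hM hP', hP d le_rfl, mul_zero]

include hL in
theorem alpha_pos_iff {M : X.Modules} (hM : Coh.IsCoh M) {d : ℕ}
    (hd : topologicalKrullDim (CohB1.support M) ≤ (d : WithBot ℕ∞)) :
    0 < StabCat.alpha d (hp k L M) ↔ topologicalKrullDim (CohB1.support M) = (d : WithBot ℕ∞) := by
  refine ⟨fun h => hd.lt_or_eq.resolve_left fun hlt => h.ne' (alpha_hp_eq_zero k hL hM hlt), fun h => ?_⟩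
  exact mul_pos (by positivity) (HilbPoly.coeff_top_pos k hL hM h (hp_spec k hL hM))

end Groth.Agent.ShStabLib
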